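import Cfsg.Agent.SBM.LatA

/-! The element `γ` normalises the image of `Q`. -/

set_option autoImplicit false

namespace Cfsg.Agent.SBM

open Subgroup H15 H38.MT

variable {M : Type*} [Group M] [Finite M] {z t : M} {Q : Subgroup M}
  {π : centralizer ({z} : Set M) →* Spor.Co1} {R : M → leechLattice → Prop}
  {G : Type*} [Group G] [Finite G] {θ : M → G}

namespace Da2

omit [Finite M] [Finite G]

theorem n_mul (z2 : z * z = 1) {a b : M} (ha : N0 z t a) (hb : N0 z t b) : N0 z t (a * b) := by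
  refine ⟨ha.1.mul_left hb.1, ?_⟩
  rw [show a * b * t * (a * b)⁻¹ = a * (b * t * b⁻¹) * a⁻¹ by group]
  rcases hb.2 with e | e <;> rw [e]
  · exact ha.2
  · rw [← conj_mul, ha.1.eq, mul_inv_cancel_right]
    rcases ha.2 with e | e <;> rw [e]
    · exact .inr rfl
    · exact .inl (by rw [mul_assoc, z2, mul_one])

theorem n_inv (z2 : z * z = 1) {a : M} (ha : N0 z t a) : N0 z t a⁻¹ := by
  refine ⟨ha.1.inv_left, ha.2.imp (fun e => ?_) fun e => ?_⟩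
  · nth_rw 1 [← e]; group
  · calc a⁻¹ * t * a⁻¹⁻¹ = a⁻¹ * (t * (z * z)) * a := by rw [z2]; group
      _ = a⁻¹ * (a * t * a⁻¹) * (z * a) := by rw [e]; group
      _ = _ := by rw [← ha.1.eq]; group

theorem n_one : N0 z t 1 := ⟨.one_left _, .inl (by simp)⟩

theorem n_Q (m : Mod z t Q π R) {q : M} (hq : q ∈ Q) : N0 z t q :=
  ⟨m.md.lx.cen q hq, m.tz.eq ▸ m.md.lx.comm q hq t m.tQ⟩

theorem one (s : St z t θ) : θ 1 = 1 := by simpa using s.mulN n_one n_one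

theorem inv (s : St z t θ) (z2 : z * z = 1) {a : M} (ha : N0 z t a) : θ a⁻¹ = (θ a)⁻¹ :=
  eq_inv_of_mul_eq_one_left (by rw [← s.mulN (n_inv z2 ha) ha, inv_mul_cancel, one s])

theorem inj (s : St z t θ) (z2 : z * z = 1) {a b : M} (ha : N0 z t a) (hb : N0 z t b) (e : θ a = θ b) :
    a = b :=
  mul_inv_eq_one.1 (s.injN (n_mul z2 ha (n_inv z2 hb)) (by
    rw [s.mulN ha (n_inv z2 hb), inv s z2 hb, e, mul_inv_cancel]))

theorem cj (s : St z t θ) (z2 : z * z = 1) {a b : M} (ha : N0 z t a) (hb : N0 z t b) :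
    θ (a * b * a⁻¹) = θ a * θ b * (θ a)⁻¹ := by
  rw [s.mulN (n_mul z2 ha hb) (n_inv z2 ha), s.mulN ha hb, inv s z2 ha]

theorem surjA (m : Mod z t Q π R) (s : St z t θ) {g : G} (h1 : Commute g (θ t)) (h2 : Commute g (θ z)) :
    ∃ a, Commute a t ∧ Commute a z ∧ θ a = g := by
  obtain ⟨a, a1, rfl⟩ := s.surjH h1
  refine ⟨a, a1, ?_, rfl⟩
  have o : θ 1 = 1 := one s
  have i : θ a⁻¹ = (θ a)⁻¹ :=
    eq_inv_of_mul_eq_one_left (by rw [← s.mulH a1.inv_left a1, inv_mul_cancel, o])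
  have zt := m.tz.symm
  have := s.injH (a := a * z * a⁻¹ * z) (((a1.mul_left zt).mul_left a1.inv_left).mul_left zt) (by
    rw [s.mulH ((a1.mul_left zt).mul_left a1.inv_left) zt, s.mulH (a1.mul_left zt) a1.inv_left,
      s.mulH a1 zt, i, h2.eq, mul_inv_cancel_right, ← s.mulH zt zt, m.md.lx.sq, o])
  rwa [mul_eq_one_iff_eq_inv, inv_eq_of_mul_eq_one_right m.md.lx.sq, mul_inv_eq_iff_eq_mul] at this

theorem surjN (m : Mod z t Q π R) (s : St z t θ) {g : G} (h2 : Commute g (θ z))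
    (h1 : g * θ t * g⁻¹ = θ t ∨ g * θ t * g⁻¹ = θ z * θ t) : ∃ a, N0 z t a ∧ θ a = g := by
  have z2 := m.md.lx.sq
  rcases h1 with h1 | h1
  · obtain ⟨a, a1, a2, e⟩ := surjA m s (mul_inv_eq_iff_eq_mul.1 h1) h2
    exact ⟨a, ⟨a2, .inl (mul_inv_eq_iff_eq_mul.2 a1)⟩, e⟩
  · obtain ⟨p, hp, pt⟩ : ∃ p ∈ Q, p * t * p⁻¹ = z * t := by
      by_contra c
      push Not at c
      rcases m.md.lx.large t (fun a ha => (mul_inv_eq_iff_eq_mul.1
        ((m.md.lx.comm a ha t m.tQ).resolve_right (c a ha))).symm) with e | e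
      · exact m.t1 e
      · exact m.nc (e ▸ IsConj.refl _)
    have np := n_Q m hp
    have nt := n_Q m m.tQ
    have nz := n_Q m m.md.lx.mem
    have e1 : θ p * θ t * (θ p)⁻¹ = θ z * θ t := by rw [← cj s z2 np nt, pt, s.mulN nz nt]
    have e2 : Commute (θ p) (θ z) := by
      change _ = _; rw [← s.mulN np nz, ← s.mulN nz np, np.1.eq]
    obtain ⟨a, a1, a2, e⟩ := surjA m s (g := (θ p)⁻¹ * g) (by
      change _ = _
      calc (θ p)⁻¹ * g * θ t = (θ p)⁻¹ * (g * θ t * g⁻¹) * g := by group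
        _ = _ := by rw [h1, ← e1]; group) (e2.inv_left.mul_left h2)
    have na : N0 z t a := ⟨a2, .inl (mul_inv_eq_iff_eq_mul.2 a1)⟩
    exact ⟨p * a, n_mul z2 np na, by rw [s.mulN np na, e, mul_inv_cancel_left]⟩

theorem act (m : Mod z t Q π R) (s : St z t θ) {γ : G} (h0 : Commute γ (θ z)) {q p : M} (hq : q ∈ Q)
    (hp : p ∈ Q) : γ * θ q * γ⁻¹ * (γ * θ p * γ⁻¹) * (γ * θ q * γ⁻¹)⁻¹ = γ * θ p * γ⁻¹ ∨
      γ * θ q * γ⁻¹ * (γ * θ p * γ⁻¹) * (γ * θ q * γ⁻¹)⁻¹ = θ z * (γ * θ p * γ⁻¹) := by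
  rw [show γ * θ q * γ⁻¹ * (γ * θ p * γ⁻¹) * (γ * θ q * γ⁻¹)⁻¹ = γ * (θ q * θ p * (θ q)⁻¹) * γ⁻¹ by group,
    ← cj s m.md.lx.sq (n_Q m hq) (n_Q m hp)]
  refine (m.md.lx.comm q hq p hp).imp (fun e => by rw [e]) fun e => ?_
  rw [e, s.mulN (n_Q m m.md.lx.mem) (n_Q m hp), ← mul_assoc, h0.eq, mul_assoc, mul_assoc, mul_assoc]

end Da2

open Da2 in
theorem Mod.da2 (m : Mod z t Q π R) (s : St z t θ) {γ : G} {ψ : Co0} (h0 : Commute γ (θ z))
    (h1 : ψ • uu = bb) (h2 : ψ • bb = uu)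
    (h : ∀ q v, R q v → Pp v uu → Pp v bb → ∃ q', R q' (ψ • v) ∧ θ q' = γ * θ q * γ⁻¹) :
    ∀ q ∈ Q, ∃ q' ∈ Q, θ q' = γ * θ q * γ⁻¹ := by
  intro q hq
  have z2 := m.md.lx.sq
  have nz := n_Q m m.md.lx.mem
  have nq := n_Q m hq
  have gz : Commute (γ * θ q * γ⁻¹) (θ z) := (h0.mul_left (by
    change _ = _; rw [← s.mulN nq nz, ← s.mulN nz nq, nq.1.eq])).mul_left h0.inv_left
  obtain ⟨s0, hs⟩ := m.md.ex' bb
  obtain ⟨t', ht, e⟩ := h s0 bb hs (Pp.symm (by rw [Pp, dot_uu_bb])) (pp_self _)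
  have e1 := act m s h0 hq (m.md.mem hs)
  rw [← e] at e1
  obtain ⟨a, na, ea⟩ := surjN m s gz (by
    rcases m.md.uniq m.lt (h2 ▸ ht) with rfl | rfl
    · exact e1
    · rw [s.mulN nz (n_Q m m.tQ), ← conj_mul, gz.eq, mul_inv_cancel_right, mul_right_inj, mul_right_inj] at e1
      exact e1)
  refine ⟨a, ?_, ea⟩
  obtain ⟨k, o⟩ := ov_ex π (mem_centralizer_singleton_iff.2 na.1)
  rcases fix2 (k := k) uu bb (fun x x1 x2 => by
    obtain ⟨p, hp⟩ := m.md.ex' (ψ⁻¹ • x)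
    obtain ⟨p', hp', e2⟩ := h p _ hp (by rw [← pp_smul ψ, smul_inv_smul, h1]; exact x2)
      (by rw [← pp_smul ψ, smul_inv_smul, h2]; exact x1)
    rw [smul_inv_smul] at hp'
    have np := n_Q m (m.md.mem hp')
    have e3 := act m s h0 hq (m.md.mem hp)
    rw [← e2, ← ea, ← Da2.cj s z2 na np, ← s.mulN nz np] at e3
    have na' := n_mul z2 (n_mul z2 na np) (n_inv z2 na)
    have l := o.lab m.md hp'
    rcases e3 with e3 | e3
    · exact m.md.congr hp' (inj s z2 na' np e3 ▸ l)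
    · exact m.md.congr (m.md.zmul hp') (inj s z2 na' (n_mul z2 nz np) e3 ▸ l)) with rfl | rfl
  · exact o.one m.md
  · exact Ov.one m.md ⟨o.1, (co1_eq_iff.2 (.inr (mul_one _).symm)).trans o.2⟩

end Cfsg.Agent.SBM
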