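import Cfsg.Agent.SBM.MF
import Cfsg.Agent.SBM.LatB

set_option autoImplicit false

namespace Cfsg.Agent.SBM

open Subgroup H15 H38.MT

variable {M : Type*} [Group M] [Finite M] {z t : M} {Q : Subgroup M}
  {π : centralizer ({z} : Set M) →* Spor.Co1} {R : M → leechLattice → Prop}
  {G : Type*} [Group G] [Finite G] {θ : M → G}

namespace Fus

omit [Finite M] [Finite G] in
theorem one (s : St z t θ) : θ 1 = 1 := by
  simpa using s.mulH (Commute.one_left t) (Commute.one_left t)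

omit [Finite M] [Finite G] in
theorem cjH (s : St z t θ) {a b : M} (ha : Commute a t) (hb : Commute b t) :
    θ (a * b * a⁻¹) = θ a * θ b * (θ a)⁻¹ := by
  rw [eq_mul_inv_iff_mul_eq, ← s.mulH ((ha.mul_left hb).mul_left ha.inv_left) ha, ← s.mulH ha hb,
    inv_mul_cancel_right]

omit [Finite M] [Finite G] in
theorem icH (s : St z t θ) {a b : M} (ha : Commute a t) (hb : Commute b t) :
    IsConj (θ b) (θ (a * b * a⁻¹)) := isConj_iff.2 ⟨θ a, (cjH s ha hb).symm⟩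

omit [Finite M] [Finite G] in
theorem sq (s : St z t θ) {a : M} (ha : Commute a t) : θ a * θ a = 1 ↔ a * a = 1 := by
  rw [← s.mulH ha ha]
  exact ⟨s.injH (ha.mul_left ha), fun e => by rw [e, one s]⟩

omit [Finite M] in
theorem sq_of {x y : M} (h : IsConj x y) (hx : x * x = 1) : y * y = 1 := by
  obtain ⟨k, rfl⟩ := isConj_iff.1 h
  rw [conj_mul, hx]; simp

omit [Finite G] in
/-- an element of `Q` interchanging `t` and `t z` -/
theorem swap0 (m : Mod z t Q π R) (s : St z t θ) : ∃ n : M, n * t * n⁻¹ = t * z ∧ n * (t * z) * n⁻¹ = t ∧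
    ∀ y, Commute y t → Commute y z → IsConj (θ y) (θ (n * y * n⁻¹)) := by
  obtain ⟨n, hn, e⟩ := m.md.lx.exists_conj m.tQ m.t1 fun e => m.nc (e ▸ IsConj.refl _)
  have hz : Commute n z := m.md.lx.cen n hn
  rw [← m.tz.eq] at e
  have e2 : n * (t * z) * n⁻¹ = t := by
    rw [← conj_mul, e, hz.eq, mul_inv_cancel_right, mul_assoc, m.md.lx.sq, mul_one]
  refine ⟨n, e, e2, fun y h1 h2 => isConj_iff.2 ⟨θ n, ?_⟩⟩
  have hy : N0 z t y := ⟨h2, .inl (by rw [h1.eq, mul_inv_cancel_right])⟩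
  have h3 : Commute (n * y * n⁻¹) t := by
    have := (h1.mul_right h2).map (MulAut.conj n)
    rwa [MulAut.conj_apply, MulAut.conj_apply, e2] at this
  have hy' : N0 z t (n * y * n⁻¹) :=
    ⟨(hz.mul_left h2).mul_left hz.inv_left, .inl (by rw [h3.eq, mul_inv_cancel_right])⟩
  rw [mul_inv_eq_iff_eq_mul, ← s.mulN ⟨hz, .inr e⟩ hy, ← s.mulN hy' ⟨hz, .inr e⟩, inv_mul_cancel_right]

omit [Finite G] in
theorem swap (m : Mod z t Q π R) (s : St z t θ) {w u : M} (h1 : IsConj z w) (h2 : IsConj t (t * w))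
    (h3 : Commute u t) (h4 : Commute u w) : ∃ v, Commute v t ∧ IsConj u v ∧
      IsConj (t * w * u) (t * v) ∧ IsConj (θ u) (θ v) := by
  obtain ⟨n, -, e2, hn⟩ := swap0 m s
  obtain ⟨g, hg, rfl⟩ := m.ztype h1 h2
  have h5 : Commute (g⁻¹ * u * g⁻¹⁻¹) t := (hg.inv_left.mul_left h3).mul_left hg.inv_left.inv_left
  have h6 : Commute (g⁻¹ * u * g⁻¹⁻¹) z := by simpa [mul_assoc] using h4.map (MulAut.conj g⁻¹)
  refine ⟨n * (g⁻¹ * u * g⁻¹⁻¹) * n⁻¹, ?_, isConj_iff.2 ⟨n * g⁻¹, by group⟩, isConj_iff.2 ⟨n * g⁻¹, ?_⟩,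
    (icH s hg.inv_left h3).trans (hn _ h5 h6)⟩
  · have := (h5.mul_right h6).map (MulAut.conj n)
    rwa [MulAut.conj_apply, MulAut.conj_apply, e2] at this
  · calc _ = n * (g⁻¹ * (t * g) * z) * n⁻¹ * (n * (g⁻¹ * u * g⁻¹⁻¹) * n⁻¹) := by group
      _ = _ := by rw [← hg.eq, inv_mul_cancel_left, e2]

omit [Finite G] in
theorem ab (m : Mod z t Q π R) (s : St z t θ) {u : M} (h1 : IsConj t u) (h2 : IsConj z (t * u)) :
    IsConj (θ t) (θ u) := by
  obtain ⟨n, e, -, hn⟩ := swap0 m s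
  obtain ⟨h, h3, rfl⟩ := m.s2 u h1 h2
  exact (e ▸ hn t (Commute.refl t) m.tz).trans (icH s h3 ((Commute.refl t).mul_left m.tz.symm))

omit [Finite G] in
theorem ba (m : Mod z t Q π R) (s : St z t θ) {u : M} (h1 : IsConj z u) (h2 : IsConj t (t * u)) :
    ¬ IsConj (θ t) (θ u) := by
  obtain ⟨g, hg, rfl⟩ := m.ztype h1 h2
  exact fun e => s.nT (e.trans (icH s hg m.tz.symm).symm)

/-- an octad vector -/
def oc : leechLattice := ⟨vTwo (H14.bits 13062145), vTwo_mem (isCw_bits (by decide +kernel))⟩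

omit [Finite G] in
theorem aa (m : Mod z t Q π R) (s : St z t θ) {u : M} (h1 : IsConj t u) (h2 : IsConj t (t * u)) :
    IsConj (θ t) (θ u) := by
  obtain ⟨w, hw⟩ := m.md.ex' (e8 none)
  obtain ⟨y, hy⟩ := m.md.ex' oc
  have n1 : sqNorm (oc : Vec) = 32 := by decide +kernel
  have h3 : R (t * w) uP := lab_cg m.md (m.md.mul m.lt hw) ⟨-uu, by rw [← uu_add_uP]; abel⟩
  have h4 : Commute y t := (m.comm_t hy).2 (by decide +kernel)
  obtain ⟨v, h5, h6, h7, h8⟩ := swap m s (m.of64 hw (sqNorm_e8 _)) (m.of32 h3 sqNorm_uP) h4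
    ((m.md.comm_iff hy hw).2 (by decide +kernel))
  obtain ⟨h, h9, rfl⟩ := m.s1 v u ((m.of32 hy n1).trans h6)
    h1 (((m.adj h3 hy sqNorm_uP n1).2 (.inl (by decide +kernel))).trans h7) h2
  exact ((ab m s (m.of32 hy n1) (m.of64 (m.md.mul m.lt hy) (by decide +kernel))).trans h8).trans
    (icH s h9 h5)

omit [Finite G] in
theorem bb (m : Mod z t Q π R) (s : St z t θ) {u : M} (hu : Commute u t) (h1 : IsConj z u)
    (h2 : IsConj z (t * u)) : ¬ IsConj (θ t) (θ u) := by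
  obtain ⟨g, hg, hQ⟩ := m.dtype h1 h2
  have c1 : IsConj u (g⁻¹ * u * g) := isConj_iff.2 ⟨g⁻¹, by rw [inv_inv]⟩
  have c2 : IsConj (t * u) (t * (g⁻¹ * u * g)) := isConj_iff.2 ⟨g⁻¹, by
    rw [inv_inv, ← mul_assoc, hg.inv_left.eq]; group⟩
  have c3 : IsConj (θ u) (θ (g⁻¹ * u * g)) := by simpa using icH s hg.inv_left hu
  have c4 : Commute (g⁻¹ * u * g) t := (hg.inv_left.mul_left hu).mul_left hg
  replace h1 := h1.trans c1
  replace h2 := h2.trans c2
  generalize g⁻¹ * u * g = d at *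
  obtain ⟨x, hx, n⟩ := m.lab64 hQ h1 fun e => m.excl m.c_tz (e ▸ h2)
  obtain ⟨a, b, na, nb, da, db, dab, e⟩ := dlat n ((m.comm_t hx).1 c4)
  have hx' := lab_cg m.md hx e.symm
  obtain ⟨p, hp⟩ := m.md.ex' a
  have h3 := m.md.mul m.lt hp
  have e1 : t * (t * p) = p := by rw [← mul_assoc, m.t2, one_mul]
  obtain ⟨v, -, h6, h7, h8⟩ := swap m s (w := t * p) (u := d) (m.of64 h3 (by
      rw [AddSubgroup.coe_add, sqNorm_add, dot_comm, da, na, sqNorm_uu]; rfl))
    (e1.symm ▸ m.of32 hp na) c4 ((m.md.comm_iff hx' h3).2 (by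
      simp only [AddSubgroup.coe_add, dot_add_left, dot_add_right, da, db, dot_comm (b : Vec) a, dab,
        dot_self, na]
      decide))
  rw [e1] at h7
  exact fun e => ba m s (h1.trans h6) ((m.of32 (lab_cg m.md (m.md.mul hp hx') ⟨-a, by abel⟩) nb).trans h7)
    ((e.trans c3).trans h8)

omit [Finite G] in
theorem fus (m : Mod z t Q π R) (s : St z t θ) {u : M} (hu : Commute u t) :
    IsConj (θ t) (θ u) ↔ IsConj t u := by
  have t2 := (sq s (Commute.refl t)).2 m.t2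
  by_cases h : u * u = 1
  swap
  · exact iff_of_false (fun e => h ((sq s hu).1 (sq_of e t2))) fun e => h (m.sq e)
  have h' : t * u * (t * u) = 1 := by
    rw [mul_assoc, ← mul_assoc u, hu.eq, mul_assoc, h, mul_one, m.t2]
  rcases m.two _ h' with e | e | e
  · have e2 : u = t := by rw [← one_mul u, ← m.t2, mul_assoc, e, mul_one]
    rw [e2]
    exact iff_of_true (IsConj.refl _) (IsConj.refl _)
  all_goals rcases m.two u h with rfl | f | f
  · exact iff_of_false (fun e => m.t1 (s.injH (Commute.refl t) (by simpa [one s] using e)))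
      fun e => m.t1 (by simpa using e)
  · exact iff_of_true (aa m s f e) f
  · exact iff_of_false (ba m s f e) fun e => m.excl e f
  · exact (m.nc (by simpa using e)).elim
  · exact iff_of_true (ab m s f e) f
  · exact iff_of_false (bb m s hu f e) fun e => m.excl e f

end Fus

theorem Mod.fu (m : Mod z t Q π R) (s : St z t θ) : Fu z t Q θ := by
  refine ⟨Fus.fus m s, fun {x} h1 h2 => ?_, fun {y} h1 h2 h3 => ?_⟩
  · have t2 := (Fus.sq s (Commute.refl t)).2 m.t2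
    have z2 := (Fus.sq s m.tz.symm).2 m.md.lx.sq
    have hc : Commute (θ z) x := by
      have e := inv_eq_of_mul_eq_one_right (Fus.sq_of h2 t2)
      rwa [mul_inv_rev, inv_eq_of_mul_eq_one_right z2, inv_eq_of_mul_eq_one_right (Fus.sq_of h1 t2)] at e
    obtain ⟨g, rfl⟩ := isConj_iff.1 h1
    obtain ⟨w, hw, e⟩ := s.surjH (g := g⁻¹ * θ z * g) (by
      simpa [mul_assoc] using hc.map (MulAut.conj g⁻¹))
    have c1 : IsConj (θ z) (θ w) := isConj_iff.2 ⟨g⁻¹, by rw [e, inv_inv]⟩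
    have c2 : IsConj z w := by
      rcases m.two w ((Fus.sq s hw).1 (Fus.sq_of c1 z2)) with rfl | f | f
      · exact (m.md.lx.ne (s.injH m.tz.symm (by simpa [Fus.one s] using c1))).elim
      · exact (s.nT (((Fus.fus m s hw).2 f).trans c1.symm)).elim
      · exact f
    obtain ⟨k, hk, rfl⟩ := m.ztype c2 ((Fus.fus m s ((Commute.refl t).mul_left hw)).1 (h2.trans
      (isConj_iff.2 ⟨g⁻¹, by rw [s.mulH (Commute.refl t) hw, e]; group⟩)))
    rw [Fus.cjH s hk m.tz.symm] at e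
    have e2 := Fus.cjH s hk (Commute.refl t)
    rw [hk.eq, mul_inv_cancel_right] at e2
    refine ⟨(θ k)⁻¹ * g⁻¹, ?_, ?_⟩
    · calc _ = (θ k)⁻¹ * (g⁻¹ * θ z * g) * g⁻¹ := by group
        _ = _ := by rw [← e]; group
    · calc _ = (θ k)⁻¹ * θ t * θ k := by group
        _ = _ := by nth_rw 1 [e2]; group
  · obtain ⟨a, ha, rfl⟩ := s.surjH h1
    have h4 := (Fus.fus m s ha).1 h2
    exact ⟨a, m.q5 h4 ((Fus.fus m s (ha.mul_left m.tz.symm)).1 (s.mulH ha m.tz.symm ▸ h3)), ha, h4, rfl⟩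

end Cfsg.Agent.SBM
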