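import Cfsg.Agent.SBM.Base
import Cfsg.Agent.B62.Lin
import Cfsg.Agent.H55.Octad

set_option autoImplicit false

namespace Cfsg.Agent.SBM

open Subgroup H15 H38.MT
open Cfsg.Agent.H14 (bits enc)
open scoped Pointwise

namespace LatA

theorem exists_sep {i j : GolayPt} (h : i ≠ j) : ∃ d, IsCw d ∧ i ∈ d ∧ j ∉ d := by
  obtain ⟨σ, h1, h2⟩ := exists_perm2 (a := none) (b := some 0) (by simp) h
  obtain ⟨c, hc, a, b, -⟩ := exists_cw_pattern True False True True
  exact ⟨_, isCw_smul σ.2 hc, by rw [mem_perm_smul, ← h1, Equiv.symm_apply_apply]; exact a.2 trivial,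
    by rw [mem_perm_smul, ← h2, Equiv.symm_apply_apply]; exact b.1⟩

/-- a non-trivial element of `M24` moves at least eight points -/
theorem eight_le {σ : M24} (h : σ ≠ 1) :
    8 ≤ (Finset.univ.filter fun i => (σ : Equiv.Perm GolayPt) i ≠ i).card := by
  by_contra n
  refine h (Subtype.ext (Equiv.ext fun i => by_contra fun ne => ?_))
  obtain ⟨d, hd, a, b⟩ := exists_sep (Ne.symm ne)
  have c := (isCw_smul σ.2 hd).symmDiff hd
  have l := Finset.card_le_card (show symmDiff ((σ : Equiv.Perm GolayPt) • d) d ⊆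
      Finset.univ.filter fun i => (σ : Equiv.Perm GolayPt) i ≠ i from fun j hj => by
    refine Finset.mem_filter.2 ⟨Finset.mem_univ _, fun e => ?_⟩
    rw [Finset.mem_symmDiff, mem_perm_smul, (Equiv.symm_apply_eq _).2 e.symm] at hj
    tauto)
  have p := Finset.card_pos.2 (show (symmDiff ((σ : Equiv.Perm GolayPt) • d) d).Nonempty from
    ⟨_, Finset.mem_symmDiff.2 (.inl ⟨by rwa [mem_perm_smul, Equiv.symm_apply_apply], b⟩)⟩)
  have := c.card_cases
  omega

theorem five {σ : M24} (h : σ ≠ 1) : ∃ a : Fin 5 → GolayPt, ∀ i j, i < j → a j ≠ a i ∧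
    a j ≠ (σ : Equiv.Perm GolayPt) (a i) ∧ (σ : Equiv.Perm GolayPt) (a j) ≠ a j := by
  obtain ⟨s, hs⟩ : ∃ s : Equiv.Perm GolayPt, s = σ := ⟨_, rfl⟩
  obtain ⟨a, S, c, hS⟩ : ∃ a, ∃ S : Finset GolayPt, 7 ≤ S.card ∧ ∀ b ∈ S, b ≠ a ∧ b ≠ s a ∧ s b ≠ b := by
    by_cases e : ∃ a, s a = a
    · obtain ⟨a, e⟩ := e
      refine ⟨a, _, le_trans (by norm_num) (eight_le h), fun b hb => ?_⟩
      have := hs ▸ (Finset.mem_filter.1 hb).2
      exact ⟨fun f => this (f ▸ e), fun f => this (by rw [f, e, e]), this⟩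
    · push Not at e
      refine ⟨none, {none, s none}ᶜ, ?_, fun b hb => by simpa [e b] using hb⟩
      have := Finset.card_le_two (a := none) (b := s none)
      rw [card_compl']; omega
  obtain ⟨b, h1, -⟩ := Finset.exists_mem_notMem_of_card_lt_card (s := ∅) (t := S) (by rw [Finset.card_empty]; omega)
  obtain ⟨c, h2, n2⟩ := Finset.exists_mem_notMem_of_card_lt_card (s := {b, s b}) (t := S)
    (lt_of_le_of_lt Finset.card_le_two (by omega))
  obtain ⟨d, h3, n3⟩ := Finset.exists_mem_notMem_of_card_lt_card (s := {b, s b, c, s c}) (t := S)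
    (lt_of_le_of_lt Finset.card_le_four (by omega))
  obtain ⟨e, h4, n4⟩ := Finset.exists_mem_notMem_of_card_lt_card (s := {b, s b, c, s c, d, s d}) (t := S)
    (lt_of_le_of_lt Finset.card_le_six (by omega))
  simp only [Finset.mem_insert, Finset.mem_singleton, not_or] at n2 n3 n4
  have := hS b h1
  have := hS c h2
  have := hS d h3
  have := hS e h4
  refine ⟨![a, b, c, d, e], fun i j => ?_⟩
  rw [← hs]
  clear hs hS
  fin_cases i <;> fin_cases j <;> simp [*]

/-- the conclusion of `inv_cases` -/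
def Q (k : Co0) : Prop := (∃ x : leechLattice, ¬ (32 : ℤ) ∣ sqNorm ((x + k • x : leechLattice) : Vec)) ∨
  ∃ x y x' y' : leechLattice, sqNorm (x' : Vec) = 64 ∧ sqNorm (y' : Vec) = 64 ∧
    Cg (x + k • x) x' ∧ Cg (y + k • y) y' ∧ ¬ Cg x' y'

theorem Q.conj {k j : Co0} (h : Q k) (c : IsConj k j) : Q j := by
  obtain ⟨g, rfl⟩ := isConj_iff.1 c
  have e : ∀ x : leechLattice, g • x + (g * k * g⁻¹) • g • x = g • (x + k • x) := fun x => by
    rw [mul_smul, inv_smul_smul, mul_smul, co0_smul_add]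
  rcases h with ⟨x, h⟩ | ⟨x, y, x', y', a, b, c, d, n⟩
  · exact .inl ⟨g • x, by rwa [e, co0_norm]⟩
  · exact .inr ⟨g • x, g • y, g • x', g • y', by rw [co0_norm, a], by rw [co0_norm, b], e x ▸ c.smul g,
      e y ▸ d.smul g, fun f => n (by simpa using f.smul g⁻¹)⟩

theorem Q.neg {k : Co0} (h : Q k) : Q (k * negC) := by
  have e : ∀ x : leechLattice, Cg (x + (k * negC) • x) (x + k • x) := fun x => by
    rw [mul_smul, negC_smul, co0_smul_neg]; exact (Cg.refl x).add (Cg.neg _)
  rcases h with ⟨x, h⟩ | ⟨x, y, x', y', a, b, c, d, n⟩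
  · obtain ⟨w, f⟩ := e x
    obtain ⟨m, hm⟩ := norm_add_two (x + k • x) w
    exact .inl ⟨x, by rw [f, hm]; omega⟩
  · exact .inr ⟨x, y, x', y', a, b, (e x).trans c, (e y).trans d, n⟩

theorem Q.octad {c : Finset GolayPt} (hc : IsCw c) (h : c.card = 8) : Q (signC c hc) := by
  obtain ⟨g, rfl⟩ := H55.oct_trans c (mem_octads hc h)
  have h0 : IsCw (bits 5279) := isCw_bits (by decide +kernel)
  refine Q.conj (k := signC _ h0) (.inr ⟨w4 (some 0) (some 5) 1 rfl, lOdd + w4 none (some 0) (-1) rfl, _, _, ?_, ?_,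
    .refl _, .refl _, fun ⟨w, e⟩ => ?_⟩) (isConj_iff.2 ⟨permC g, permC_conj_signC g _ h0⟩)
  · simp only [sqNorm, add_sign]; decide +kernel
  · simp only [sqNorm, add_sign]; decide +kernel
  · have e1 := congrFun (congrArg Subtype.val e) (some 0)
    have e2 := congrFun (congrArg Subtype.val e) (some 6)
    rw [add_sign, AddSubgroup.coe_add, Pi.add_apply, add_sign, AddSubgroup.coe_add _ w, Pi.add_apply] at e1 e2
    rw [if_pos (by decide), if_pos (by decide)] at e1
    rw [if_neg (by decide), if_neg (by decide), show (w4 (some 0) (some 5) 1 rfl : Vec) (some 6) = 0 by decide,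
      show ((lOdd + w4 none (some 0) (-1) rfl : leechLattice) : Vec) (some 6) = 1 by decide] at e2
    rcases parity_cases w.2 with p | p
    · have := p.1 (some 6); omega
    · have := p.1 (some 0); omega

end LatA

open LatA

theorem fix3 {k : Co0}
    (h : ∀ f : Fin 5 → leechLattice, ∃ i j, i ≠ j ∧ Cg (k • (f i - f j)) (f i - f j)) :
    k = 1 ∨ k = negC := by
  obtain ⟨i, j, ij, c⟩ := h fun i => w4 (some (2 * i.1 : ℕ)) (some (2 * i.1 + 1 : ℕ)) 1 rfl
  obtain ⟨g, e⟩ := trans64 _ (e8 none) ((by decide +kernel : ∀ i j : Fin 5, i ≠ j → sqNorm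
    ((w4 (some (2 * i.1 : ℕ)) (some (2 * i.1 + 1 : ℕ)) 1 rfl - w4 (some (2 * j.1 : ℕ)) (some (2 * j.1 + 1 : ℕ)) 1 rfl :
      leechLattice) : Vec) = 64) i j ij) (sqNorm_e8 _)
  have h' : ∀ f : Fin 5 → leechLattice, ∃ i j, i ≠ j ∧ Cg ((g * k * g⁻¹) • (f i - f j)) (f i - f j) := fun f => by
    obtain ⟨i, j, ij, c⟩ := h fun i => g⁻¹ • f i
    exact ⟨i, j, ij, by simpa [← co0_smul_sub, mul_smul] using c.smul g⟩
  obtain ⟨σ, d, hd, e'⟩ := (mem_monoN_iff_congr (k := g * k * g⁻¹) none).2 (by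
    rw [← e, mul_smul, inv_smul_smul, mul_smul]; exact c.smul g)
  rw [e'] at h'
  obtain rfl : σ = 1 := by
    by_contra n
    obtain ⟨a, ha⟩ := five n
    have key : ∀ i j, i < j → ¬ Cg ((signC d hd * permC σ) • w4 (a i) (a j) (-1) rfl) (w4 (a i) (a j) (-1) rfl) :=
      fun i j l c => by
        obtain ⟨n1, n2, n3⟩ := ha i j l
        have nw := sqNorm_w4 n1.symm (e := -1) rfl rfl
        have ab : ∀ p, (w4 (a i) (a j) (-1) rfl : Vec) ((σ : Equiv.Perm GolayPt) p) = 0 →
            (w4 (a i) (a j) (-1) rfl : Vec) p = 0 := fun p z => by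
          rcases c.pm (by rw [co0_norm, nw]) nw with f | f <;>
          · have := congrFun (congrArg Subtype.val f) ((σ : Equiv.Perm GolayPt) p)
            simp only [mul_smul, signC_apply, permC_apply', AddSubgroup.coe_neg, Pi.neg_apply, z] at this
            split_ifs at this <;> omega
        have a1 := mt (ab (a i)) (by rw [w4_apply, if_pos rfl, if_neg n1.symm]; decide)
        have a2 := mt (ab (a j)) (by rw [w4_apply, if_pos rfl, if_neg n1]; decide)
        rw [w4_apply, if_neg n2.symm] at a1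
        rw [w4_apply, if_neg n3] at a2
        split_ifs at a1 a2 with c1 c2
        exacts [n1 ((σ : Equiv.Perm GolayPt).injective (c2.trans c1.symm)), a2 rfl, a1 rfl, a1 rfl]
    have e : ∀ p q, w4 p none (-1) rfl - w4 q none (-1) rfl = w4 p q (-1) rfl := fun p q =>
      Subtype.ext (funext fun l => by
        simp only [AddSubgroup.coe_sub, Pi.sub_apply, w4_apply]; split_ifs <;> rfl)
    obtain ⟨i, j, ij, c⟩ := h' fun i => w4 (a i) none (-1) rfl
    rcases lt_or_gt_of_ne ij with l | l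
    · exact key i j l (e _ _ ▸ c)
    · rw [← neg_sub, co0_smul_neg, e] at c
      exact key j i l ((Cg.neg _).symm.trans (c.trans (Cg.neg _)))
  rw [permC_one, mul_one] at h' e'
  have : signC d hd = 1 ∨ signC d hd = negC := by
    by_contra n
    obtain ⟨lam, hl⟩ := B62.fam (signC_sq d hd) (not_or.1 n).1 (not_or.1 n).2
    obtain ⟨i, j, ij, c⟩ := h' fun i => lam (i.castLE (by norm_num), true)
    have s : ∀ x y : leechLattice, Cg (x + y) (x - y) := fun x y => ⟨y, by abel⟩
    obtain ⟨w, e⟩ := ((s _ _).smul _).trans (c.trans (s _ _).symm)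
    exact ij (Fin.castLE_injective (by norm_num) (congrArg Prod.fst (hl _ _ w e)))
  rw [← e'] at this
  exact this.imp (fun e => by simpa using e) fun e => by
    rwa [mul_inv_eq_iff_eq_mul, ← negC_comm, mul_right_inj] at e

theorem fix2 {k : Co0} (a b : leechLattice) (h : ∀ x, Pp x a → Pp x b → Cg (k • x) x) :
    k = 1 ∨ k = negC := fix3 fun f => by
  obtain ⟨i, j, ij, e⟩ := Fintype.exists_ne_map_eq_of_card_lt
    (fun i => (decide (Pp (f i) a), decide (Pp (f i) b))) (by simp)
  have k : ∀ u, decide (Pp (f i) u) = decide (Pp (f j) u) → Pp (f i - f j) u := fun u e => by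
    rw [sub_eq_add_neg, pp_add, (Cg.neg _).pp]; exact decide_eq_decide.1 e
  exact ⟨i, j, ij, h _ (k a (congrArg Prod.fst e)) (k b (congrArg Prod.snd e))⟩

theorem inv_cases {k : Co0} (h : k * k = 1 ∨ k * k = negC) :
    k = 1 ∨ k = negC ∨ (∃ x : leechLattice, ¬ (32 : ℤ) ∣ sqNorm ((x + k • x : leechLattice) : Vec)) ∨
      ∃ x y x' y' : leechLattice, sqNorm (x' : Vec) = 64 ∧ sqNorm (y' : Vec) = 64 ∧
        Cg (x + k • x) x' ∧ Cg (y + k • y) y' ∧ ¬ Cg x' y' := by
  rcases h with h | h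
  · obtain ⟨c, hc, e⟩ := H26.CoInv.isConj_signC h
    rcases hc.card_cases with n | n | n | n | n
    · obtain rfl := Finset.card_eq_zero.1 n
      exact .inl (isConj_one_left.1 (signC_empty ▸ e))
    · exact .inr (.inr ((Q.octad hc n).conj e.symm))
    · refine .inr (.inr (Q.conj (.inl ⟨lOdd, fun d => ?_⟩) e.symm))
      have := dvd_norm_sub ((lOdd + signC c hc • lOdd : leechLattice) : Vec) (fun i => if i ∈ cᶜ then 4 else 0)
        fun i => by
          rw [add_sign]
          by_cases a : i ∈ c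
          · simp [a]
          · rcases lOdd_val i with v | v <;> simp [a, v]
      rw [Finset.sum_ite_mem, Finset.univ_inter, Finset.sum_const, card_compl', n] at this
      rw [show (24 - 12) • (4 : ℤ) = 48 from rfl] at this
      omega
    · have := (Q.octad hc.compl (by rw [card_compl', n])).neg
      rw [H26.CoInv.signC_compl hc, mul_assoc, negC_sq, mul_one] at this
      exact .inr (.inr (this.conj e.symm))
    · obtain rfl := Finset.eq_univ_of_card c (n.trans card_pt.symm)
      obtain ⟨g, e⟩ := isConj_iff.1 e.symm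
      exact .inr (.inl (by rw [← e]; exact mul_inv_eq_iff_eq_mul.2 (negC_comm g)))
  · have n : ∀ x : leechLattice, sqNorm (x : Vec) = 32 → sqNorm ((x + k • x : leechLattice) : Vec) = 64 := fun x e => by
      rw [AddSubgroup.coe_add, sqNorm_add, dot_zero h, co0_norm, e]; norm_num
    refine .inr (.inr (.inr ⟨uP, bb, _, _, n _ sqNorm_uP, n _ norm_bb, .refl _, .refl _, fun ⟨w, e⟩ => ?_⟩))
    have := n (uP - bb) (by decide +kernel)
    exact short_ne_two (w := w) (by omega) this.le (by rw [co0_smul_sub, sub_add_sub_comm, e, add_sub_cancel_left])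

end Cfsg.Agent.SBM
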