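import Cfsg.Agent.SBM.AutA
import Cfsg.Agent.SBM.LatA

/-! The embedding `θ` of `C(t)` and `C(z) ∩ N(⟨t, z⟩)`. -/

set_option autoImplicit false

namespace Cfsg.Agent.SBM

open Subgroup H15 H38.MT

variable {M : Type*} [Group M] [Finite M] {z t : M} {Q : Subgroup M}
  {π : centralizer ({z} : Set M) →* Spor.Co1} {R : M → leechLattice → Prop}
  {G : Type*} [Group G] [Finite G]

namespace StC

theorem cenP0 (m : Mod z t Q π R) {v : M} (hz : Commute v z) (h : ∀ q ∈ Q, Commute q t → Commute v q) :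
    v = 1 ∨ v = z ∨ v = t ∨ v = z * t := by
  obtain ⟨k, o⟩ := ov_ex π (mem_centralizer_singleton_iff.2 hz)
  have hv : v ∈ Q := by
    rcases fix2 (k := k) uu uu (fun x hx _ => by
      obtain ⟨q, hq⟩ := m.md.ex' x
      have := o.lab m.md hq
      rw [(h q (m.md.mem hq) ((m.comm_t hq).2 hx)).eq, mul_inv_cancel_right] at this
      exact m.md.congr hq this) with rfl | rfl
    · exact o.one m.md
    · exact Ov.one m.md ⟨o.1, (co1_eq_iff.2 (.inr (mul_one _).symm)).trans o.2⟩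
  by_contra c
  simp only [not_or] at c
  obtain ⟨a, ha, e1, e2⟩ := lx_sep m.md.lx m.tQ hv c.1 c.2.1 c.2.2.1 c.2.2.2
  rw [← (h a ha e1).eq, mul_inv_cancel_right, right_eq_mul] at e2
  exact m.md.lx.ne e2

omit [Finite M] [Finite G] in
theorem glue {Φ : M → G} (z1 : z ≠ 1) (tz : Commute t z)
    (mul : ∀ {a b}, Commute a t → Commute b t → Φ (a * b) = Φ a * Φ b)
    (inj : ∀ {a b}, Commute a t → Commute b t → Φ a = Φ b → a = b)
    (surj : ∀ {g}, Commute g (Φ t) → ∃ a, Commute a t ∧ Φ a = g) (nT : ¬ IsConj (Φ t) (Φ z))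
    {p : M} {n : G} (pz : Commute p z) (pt : p * t * p⁻¹ = t * z) (pp : Commute (p * p) t)
    (nn : Φ (p * p) = n * n)
    (hn : ∀ a, Commute a t → Commute a z → Φ (p * a * p⁻¹) = n * Φ a * n⁻¹) : ∃ θ : M → G, St z t θ := by
  classical
  have one : Φ 1 = 1 := by simpa using mul (.one_left t) (.one_left t)
  have pt' : p⁻¹ * t * p = t * z := by
    calc p⁻¹ * t * p = p * ((p * p)⁻¹ * t * (p * p)) * p⁻¹ := by group
      _ = _ := by rw [pp.inv_left.eq, inv_mul_cancel_right, pt]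
  have c1 : ∀ {a}, Commute a t → Commute a z → Commute (p * a * p⁻¹) t := fun {a} h1 h2 => by
    have : Commute a (p⁻¹ * t * p) := pt' ▸ h1.mul_right h2
    simpa [mul_assoc] using this.map (MulAut.conj p)
  have c2 : ∀ {a}, Commute a t → Commute a z → Commute (p⁻¹ * a * p) t := fun {a} h1 h2 => by
    have : Commute a (p * t * p⁻¹) := pt ▸ h1.mul_right h2
    simpa [mul_assoc] using this.map (MulAut.conj p⁻¹)
  have np : ¬ Commute p t := fun c => z1 (by rwa [c.eq, mul_inv_cancel_right, left_eq_mul] at pt)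
  let θ : M → G := fun a => if Commute a t then Φ a else n * Φ (p⁻¹ * a)
  have t1 : ∀ {a}, Commute a t → θ a = Φ a := fun h => if_pos h
  have t2 : ∀ {a}, Commute a t → θ (p * a) = n * Φ a := fun {a} h => by
    rw [show θ (p * a) = _ from if_neg fun c => np (by simpa using c.mul_left h.inv_left), inv_mul_cancel_left]
  have dec : ∀ {a}, N0 z t a → ∃ b, Commute b t ∧ Commute b z ∧ (a = b ∨ a = p * b) := by
    rintro a ⟨h1, h2 | h2⟩
    · exact ⟨a, mul_inv_eq_iff_eq_mul.1 h2, h1, .inl rfl⟩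
    · refine ⟨p⁻¹ * a, ?_, pz.inv_left.mul_left h1, .inr (mul_inv_cancel_left _ _).symm⟩
      change _ = _
      calc p⁻¹ * a * t = p⁻¹ * (a * t * a⁻¹) * a := by group
        _ = _ := by rw [h2, ← pt]; group
  refine ⟨θ, fun h1 h2 => by rw [t1 h1, t1 h2, t1 (h1.mul_left h2), mul h1 h2], fun h1 h2 => ?_,
    fun h1 e => inj h1 (.one_left t) (by rw [← t1 h1, e, one]), fun h1 e => ?_, fun hg => ?_, ?_⟩
  · obtain ⟨a, a1, a2, rfl | rfl⟩ := dec h1 <;> obtain ⟨b, b1, b2, rfl | rfl⟩ := dec h2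
    · rw [t1 a1, t1 b1, t1 (a1.mul_left b1), mul a1 b1]
    · rename_i a
      have := hn _ (c2 a1 a2) ((pz.inv_left.mul_left a2).mul_left pz)
      rw [show p * (p⁻¹ * a * p) * p⁻¹ = a by group] at this
      rw [show a * (p * b) = p * (p⁻¹ * a * p * b) by group, t2 ((c2 a1 a2).mul_left b1), t1 a1, t2 b1,
        mul (c2 a1 a2) b1, this]
      group
    · rw [mul_assoc, t2 (a1.mul_left b1), t2 a1, t1 b1, mul a1 b1, mul_assoc]
    · rw [show p * a * (p * b) = p * a * p⁻¹ * (p * p * b) by group,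
        t1 ((c1 a1 a2).mul_left (pp.mul_left b1)), mul (c1 a1 a2) (pp.mul_left b1), mul pp b1, nn,
        hn a a1 a2, t2 a1, t2 b1]
      group
  · obtain ⟨a, a1, a2, rfl | rfl⟩ := dec h1
    · exact inj a1 (.one_left t) (by rw [← t1 a1, e, one])
    · have h3 := hn t (.refl t) tz
      rw [t2 a1] at e
      rw [eq_inv_of_mul_eq_one_left e, inv_inv, mul_assoc (Φ a)⁻¹, ← mul (.refl t) a1, ← a1.eq,
        mul a1 (.refl t), inv_mul_cancel_left] at h3
      exact absurd (mul_inv_eq_iff_eq_mul.1 (inj (c1 (.refl t) tz) (.refl t) h3)) np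
  · obtain ⟨a, h1, e⟩ := surj (t1 (.refl t) ▸ hg)
    exact ⟨a, h1, (t1 h1).trans e⟩
  · rwa [t1 (.refl t), t1 tz.symm]

omit [Finite G] in
theorem core (m : Mod z t Q π R) {Φ : M → G}
    (mul : ∀ {a b}, Commute a t → Commute b t → Φ (a * b) = Φ a * Φ b)
    (inj : ∀ {a b}, Commute a t → Commute b t → Φ a = Φ b → a = b)
    (surj : ∀ {g}, Commute g (Φ t) → ∃ a, Commute a t ∧ Φ a = g) (nT : ¬ IsConj (Φ t) (Φ z)) {g : G}
    (h1 : g * Φ t * g⁻¹ = Φ (z * t)) (h2 : g * Φ z * g⁻¹ = Φ z) : ∃ θ : M → G, St z t θ := by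
  classical
  have tz := m.tz
  have z1 := m.md.lx.ne
  have one : Φ 1 = 1 := by simpa using mul (.one_left t) (.one_left t)
  have inv : ∀ {a}, Commute a t → Φ a⁻¹ = (Φ a)⁻¹ := fun h =>
    eq_inv_of_mul_eq_one_left (by rw [← mul h.inv_left h, inv_mul_cancel, one])
  have cm : ∀ {a b}, Commute a t → Commute b t → (Commute (Φ a) (Φ b) ↔ Commute a b) := fun h1 h2 =>
    ⟨fun e => inj (h1.mul_left h2) (h2.mul_left h1) (by rw [mul h1 h2, mul h2 h1, e.eq]),
      fun e => by change _ = _; rw [← mul h1 h2, ← mul h2 h1, e.eq]⟩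
  obtain ⟨p, hp, pt⟩ : ∃ p ∈ Q, p * t * p⁻¹ = t * z := by
    by_contra c
    push Not at c
    rcases m.md.lx.large t (fun a ha => (mul_inv_eq_iff_eq_mul.1
      ((m.md.lx.comm a ha t m.tQ).resolve_right (tz.eq ▸ c a ha))).symm) with e | e
    · exact m.t1 e
    · exact m.nc (e ▸ IsConj.refl _)
  have pz : Commute p z := m.md.lx.cen p hp
  have pp : ∀ a, Commute a z → Commute (p * p) a := fun a ha => by
    rcases m.md.lx.sqr p hp with e | e <;> rw [e]
    exacts [.one_left _, ha.symm]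
  have ex : ∀ a, ∃ b, Commute a t → Commute a z →
      Commute b t ∧ Commute b z ∧ Φ b = g * Φ a * g⁻¹ := fun a => by
    by_cases c : Commute a t ∧ Commute a z
    · have e1 : Commute (g * Φ a * g⁻¹) (Φ z) := h2 ▸ ((cm c.1 tz.symm).2 c.2).map (MulAut.conj g)
      have e2 : Commute (g * Φ a * g⁻¹) (Φ z * Φ t) :=
        mul tz.symm (.refl t) ▸ h1 ▸ ((cm c.1 (.refl t)).2 c.1).map (MulAut.conj g)
      obtain ⟨b, b1, e⟩ := surj (g := g * Φ a * g⁻¹) (by simpa using e1.inv_right.mul_right e2)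
      exact ⟨b, fun _ _ => ⟨b1, (cm b1 tz.symm).1 (e ▸ e1), e⟩⟩
    · exact ⟨1, fun a b => absurd ⟨a, b⟩ c⟩
  choose α hα using ex
  obtain ⟨c, ct, cz, hc⟩ := m.autA (fun a => p⁻¹ * α a * p) (fun a a1 a2 => by
      obtain ⟨b1, b2, -⟩ := hα a a1 a2
      have : Commute (α a) (p * t * p⁻¹) := pt ▸ b1.mul_right b2
      exact ⟨by simpa [mul_assoc] using this.map (MulAut.conj p⁻¹), (pz.inv_left.mul_left b2).mul_left pz⟩)
    (fun a b a1 a2 b1 b2 => by
      obtain ⟨c1, -, e1⟩ := hα a a1 a2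
      obtain ⟨c2, -, e2⟩ := hα b b1 b2
      obtain ⟨c3, -, e3⟩ := hα _ (a1.mul_left b1) (a2.mul_left b2)
      rw [inj c3 (c1.mul_left c2) (by rw [e3, mul c1 c2, e1, e2, mul a1 b1, conj_mul])]
      group)
    (fun a a1 a2 e => by
      obtain ⟨c1, -, e1⟩ := hα a a1 a2
      have : α a = 1 := by simpa [mul_assoc] using congrArg (p * · * p⁻¹) e
      rw [this, one, eq_comm, conj_eq_one_iff] at e1
      exact inj a1 (.one_left t) (e1.trans one.symm))
    (by
      obtain ⟨c1, -, e1⟩ := hα t (.refl t) tz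
      rw [inj c1 (tz.symm.mul_left (.refl t)) (e1.trans h1), ← tz.eq, ← pt]; group)
    (by
      obtain ⟨c1, -, e1⟩ := hα z tz.symm (.refl z)
      rw [inj c1 tz.symm (e1.trans h2), mul_assoc, ← pz.eq, inv_mul_cancel_left])
  obtain ⟨n, hn⟩ : ∃ n : G, ∀ a, Commute a t → Commute a z → Commute (p * a * p⁻¹) t ∧
      Φ (p * a * p⁻¹) = n * Φ a * n⁻¹ := ⟨g * (Φ c)⁻¹, fun a a1 a2 => by
    have b1 := (ct.inv_left.mul_left a1).mul_left ct
    have b2 := (cz.inv_left.mul_left a2).mul_left cz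
    obtain ⟨c1, -, e1⟩ := hα _ b1 b2
    have e2 : α (c⁻¹ * a * c) = p * a * p⁻¹ := by
      calc _ = p * (p⁻¹ * α (c⁻¹ * a * c) * p) * p⁻¹ := by group
        _ = _ := by rw [hc _ b1 b2]; group
    rw [← e2, e1, mul (ct.inv_left.mul_left a1) ct, mul ct.inv_left a1, inv ct]
    exact ⟨c1, by group⟩⟩
  have n2 : ∀ a, Commute a t → Commute a z → Commute (n * n) (Φ a) := fun a a1 a2 => by
    obtain ⟨b1, e1⟩ := hn a a1 a2
    obtain ⟨-, e2⟩ := hn _ b1 ((pz.mul_left a2).mul_left pz.inv_left)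
    rw [show p * (p * a * p⁻¹) * p⁻¹ = p * p * a * (p * p)⁻¹ by group, (pp a a2).eq, mul_inv_cancel_right,
      e1] at e2
    change _ = _
    calc n * n * Φ a = n * (n * Φ a * n⁻¹) * n⁻¹ * (n * n) := by group
      _ = _ := by rw [← e2]
  obtain ⟨v, vt, hv⟩ := surj (n2 t (.refl t) tz)
  have va : ∀ a, Commute a t → Commute a z → Commute v a := fun a a1 a2 =>
    (cm vt a1).1 (hv ▸ n2 a a1 a2)
  have vz := va z tz.symm (.refl z)
  have vp : p * v * p⁻¹ = v := by
    obtain ⟨b1, e1⟩ := hn v vt vz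
    exact inj b1 vt (by rw [e1, hv]; group)
  have hv' : v = 1 ∨ v = z := by
    rcases cenP0 m vz (fun q hq qt => va q qt (m.md.lx.cen q hq)) with e | e | e | e
    · exact .inl e
    · exact .inr e
    · rw [e, pt, mul_eq_left] at vp; exact absurd vp z1
    · rw [e, ← conj_mul, pt, pz.eq, mul_inv_cancel_right, mul_right_inj, mul_eq_left] at vp
      exact absurd vp z1
  have fin : v = p * p ∨ v = p * p * z := by
    rcases hv' with e | e <;> rcases m.md.lx.sqr p hp with e' | e' <;> rw [e, e'] <;> simp [m.md.lx.sq]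
  rcases fin with e | e
  · exact glue z1 tz mul inj surj nT pz pt (pp t tz) (e ▸ hv) fun a a1 a2 => (hn a a1 a2).2
  · have e1 : p * t * (p * t) = p * p * z := by
      calc p * t * (p * t) = p * t * p⁻¹ * (p * p * t) := by group
        _ = z * (t * t) * (p * p) := by rw [pt, (pp t tz).eq, tz.eq]; group
        _ = _ := by rw [m.t2, mul_one, (pp z (.refl z)).eq]
    refine glue (p := p * t) z1 tz mul inj surj nT (pz.mul_left tz) (by rw [← pt]; group)
      (e1 ▸ e ▸ vt) (e1 ▸ e ▸ hv) fun a a1 a2 => ?_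
    rw [← (hn a a1 a2).2, mul_assoc p, ← a1.eq]
    congr 1; group

end StC

theorem Mod.exists_st (m : Mod z t Q π R) (ht : t ∈ centralizer ({t} : Set M))
    (hz : z ∈ centralizer ({t} : Set M)) {φ : centralizer ({t} : Set M) →* G} (inj : Function.Injective φ)
    (hC : centralizer {φ ⟨t, ht⟩} = φ.range) (nT : ¬ IsConj (φ ⟨t, ht⟩) (φ ⟨z, hz⟩)) {g : G}
    (h1 : g * φ ⟨t, ht⟩ * g⁻¹ = φ (⟨z, hz⟩ * ⟨t, ht⟩)) (h2 : g * φ ⟨z, hz⟩ * g⁻¹ = φ ⟨z, hz⟩) :
    ∃ θ : M → G, St z t θ := by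
  classical
  let Φ : M → G := fun a => if h : a ∈ centralizer ({t} : Set M) then φ ⟨a, h⟩ else 1
  have k : ∀ {a} (h : a ∈ centralizer ({t} : Set M)), Φ a = φ ⟨a, h⟩ := fun h => dif_pos h
  have c : ∀ {a}, Commute a t → a ∈ centralizer ({t} : Set M) := mem_centralizer_singleton_iff.2
  refine StC.core m (Φ := Φ) (g := g) (fun a b => ?_) (fun a b e => ?_) (fun {g} hg => ?_) ?_ ?_ ?_
  · rw [k (c a), k (c b), k (c (a.mul_left b)), ← map_mul]; rfl
  · rw [k (c a), k (c b)] at e; exact congrArg Subtype.val (inj e)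
  · rw [k ht] at hg
    obtain ⟨a, e⟩ := hC.le (mem_centralizer_singleton_iff.2 hg)
    exact ⟨a, mem_centralizer_singleton_iff.1 a.2, (k a.2).trans e⟩
  · rwa [k ht, k hz]
  · rw [k ht, k (mul_mem hz ht)]; exact h1
  · rw [k hz]; exact h2

end Cfsg.Agent.SBM
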