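import Cfsg.Agent.SBM.Defs
import Cfsg.Agent.HN.TopK

/-! Project SBM: `C(w) ≤ N(Q)` (notes/SBM.md part Top, after `HN/TopK`). -/

set_option autoImplicit false

namespace Cfsg.Agent.SBM

open Subgroup H15 H38.MT Cfsg.Agent.H49 HN HN.TopData

theorem Top.index_le {G X : Type*} [Group G] [Finite X] (H : Subgroup G) (f : G → X)
    (hf : ∀ a b, f a = f b → a⁻¹ * b ∈ H) : H.index ≤ Nat.card X :=
  Nat.card_le_card_of_injective (fun q : G ⧸ H => f q.out) fun q q' e => by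
    rw [← q.out_eq, ← q'.out_eq]
    exact QuotientGroup.eq.2 (hf _ _ e)

theorem Top.avoid {G : Type*} [Group G] [Finite G] {H H' : Subgroup G}
    (h : 4 * Nat.card H' < Nat.card H) (g1 g2 g3 : G) :
    ∃ b ∈ H, b ∉ H' ∧ g1 * b ∉ H' ∧ g2 * b ∉ H' ∧ g3 * b ∉ H' := by
  classical
  by_contra! e
  have s : Function.Surjective fun p : (Fin 4 × H') => if hp : (![1, g1, g2, g3] p.1)⁻¹ * p.2 ∈ H then
      (⟨_, hp⟩ : H) else 1 := by
    rintro ⟨b, hb⟩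
    obtain ⟨i, hi⟩ : ∃ i : Fin 4, ![1, g1, g2, g3] i * b ∈ H' := by
      by_cases h0 : b ∈ H'
      · exact ⟨0, by simpa using h0⟩
      by_cases h1 : g1 * b ∈ H'
      · exact ⟨1, h1⟩
      by_cases h2 : g2 * b ∈ H'
      · exact ⟨2, h2⟩
      exact ⟨3, e b hb h0 h1 h2⟩
    exact ⟨(i, ⟨_, hi⟩), by simp [hb]⟩
  have := Nat.card_le_card_of_surjective _ s
  rw [Nat.card_prod, Nat.card_eq_fintype_card (α := Fin 4), Fintype.card_fin] at this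
  omega

namespace TopB

variable {G : Type*} [Group G] {c w : G} {Q D Y : Subgroup G} {Ng : G → Prop} (h : TopB c w Q Ng)
include h

theorem w2 : w * w = 1 := h.ex.sq
theorem w1 : w ≠ 1 := h.ex.ne
theorem wQ : w ∈ Q := h.ex.mem
theorem wc : ∀ a ∈ Q, a * w = w * a := h.ex.cen
theorem sq : ∀ a ∈ Q, a * a = 1 ∨ a * a = w := h.ex.sqr
theorem cen : ∀ a ∈ Q, (∀ b ∈ Q, a * b = b * a) → a = 1 ∨ a = w := h.ex.center

theorem comm : ∀ a ∈ Q, ∀ b ∈ Q, a * b = b * a ∨ a * b = w * (b * a) := fun a ha b hb =>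
  (h.ex.comm a ha b hb).imp mul_inv_eq_iff_eq_mul.1 fun e => by
    rw [mul_inv_eq_iff_eq_mul.1 e, mul_assoc]

theorem wN {k : G} (hk : k ∈ 𝒩(Q)) : k * w = w * k := by
  refine mul_inv_eq_iff_eq_mul.1 ((h.cen _ (cjN hk h.wQ) fun b hb => ?_).resolve_left
    fun e => h.w1 (conj_eq_one_iff.1 e))
  have := h.wc _ (cjN (inv_mem hk) hb)
  calc _ = k * (w * (k⁻¹ * b * k⁻¹⁻¹)) * k⁻¹ := by group
    _ = _ := by rw [← this]; group

theorem inv {x : G} (hx : IsConj c x) : x * x = 1 := by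
  obtain ⟨k, rfl⟩ := isConj_iff.1 hx
  rw [conj_mul, h.c2]; simp

theorem xw {x : G} (hQ : x ∈ Q) (hx : IsConj c x) : IsConj c (x * w) := by
  obtain ⟨k, hk, rfl⟩ := h.trans x hQ hx
  have := cj1 k h.cw
  rwa [← conj_mul, h.wN hk, mul_inv_cancel_right] at this

theorem add {a a' b : G} (ha : a ∈ Q) (ha' : a' ∈ Q) (hb : b ∈ Q) :
    a * a' * b = b * (a * a') ↔ (a * b = b * a ↔ a' * b = b * a') := by
  have w1 : ∀ x : G, w * x ≠ x := fun x e => h.w1 (by simpa using e)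
  rcases h.comm a ha b hb with e | e <;> rcases h.comm a' ha' b hb with e' | e'
  · rw [mul_assoc, e', ← mul_assoc, e, mul_assoc]; simp
  · rw [mul_assoc, e', ← mul_assoc, h.wc a ha, mul_assoc, ← mul_assoc a, e, mul_assoc b]
    simp [w1]
  · rw [mul_assoc, e', ← mul_assoc, e, mul_assoc, mul_assoc b]
    simp [w1]
  · rw [mul_assoc, e', ← mul_assoc, h.wc a ha, mul_assoc, ← mul_assoc a, e, mul_assoc w, ← mul_assoc w,
      h.w2, one_mul, mul_assoc b]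
    simp [w1]

theorem L3 {k x : G} (hk : k * w = w * k) (hQ : x ∈ Q) (hx : IsConj c x)
    (hN : k * x * k⁻¹ ∈ 𝒩(Q)) : k ∈ 𝒩(Q) := by
  obtain ⟨a, ha, rfl⟩ := h.trans x hQ hx
  obtain ⟨b, hb, e⟩ := h.trans _ (h.L1 _ hN (cj1 k hx) (by
    have := cj1 k (h.xw hQ hx)
    rwa [← conj_mul (b := k), hk, mul_inv_cancel_right] at this)) (cj1 k hx)
  have := h.RN (b⁻¹ * k * a) (by
    calc _ = b⁻¹ * (k * (a * c * a⁻¹) * k⁻¹) * (k * a) := by group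
      _ = _ := by rw [← e]; group)
    (Commute.mul_left (Commute.mul_left (Commute.inv_left (h.wN hb)) hk) (h.wN ha))
  rwa [mul_mem_cancel_right ha, mul_mem_cancel_left (inv_mem hb)] at this

theorem EwQ {a b : G} (ha : a ∈ Q) (hb : b ∈ Q) : Ew w a b :=
  (h.comm a ha b hb).imp (fun e => by rw [e, mul_inv_cancel_right]) fun e => by
    rw [e, mul_assoc, mul_inv_cancel_right, h.wc b hb]

theorem Ewi {k d : G} (hk : k * w = w * k) (e : Ew w k d) : Ew w k⁻¹ d := by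
  refine e.imp (fun e => by nth_rw 1 [← e]; group) fun e => ?_
  have : d = k * d * k⁻¹ * w := by rw [e, mul_assoc, h.w2, mul_one]
  nth_rw 1 [this]
  calc _ = d * (k⁻¹ * (w * k)) := by group
    _ = _ := by rw [← hk]; group

theorem Ews {k d : G} (hk : k * w = w * k) (hd : d * w = w * d) (e : Ew w k d) : Ew w d k := by
  refine e.imp (fun e => by rw [mul_inv_eq_iff_eq_mul] at e ⊢; exact e.symm) fun e => ?_
  rw [mul_inv_eq_iff_eq_mul] at e ⊢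
  rw [mul_assoc, ← hd, ← mul_assoc, e, mul_assoc, mul_assoc, hk, ← mul_assoc w, h.w2, one_mul]

/-- elements of `Q` centralised by `k` modulo `w` -/
def S (k : G) : Subgroup G where
  carrier := {d | d ∈ Q ∧ Ew w k d}
  one_mem' := ⟨one_mem _, Or.inl (by simp)⟩
  mul_mem' := by
    rintro a b ⟨a1, a2⟩ ⟨b1, b2⟩
    refine ⟨mul_mem a1 b1, ?_⟩
    unfold Ew at *
    rw [← conj_mul]
    rcases a2 with e | e <;> rcases b2 with e' | e' <;> rw [e, e']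
    · exact Or.inl rfl
    · exact Or.inr (mul_assoc _ _ _).symm
    · exact Or.inr (by rw [mul_assoc, ← h.wc b b1, mul_assoc])
    · exact Or.inl (by rw [h.wc b b1, mul_assoc, ← mul_assoc w, h.w2, one_mul])
  inv_mem' := by
    rintro a ⟨a1, a2⟩
    refine ⟨inv_mem a1, a2.imp (fun e => by rw [← conj_inv, e]) fun e => ?_⟩
    rw [← conj_inv, e, mul_inv_rev, inv_eq_of_mul_eq_one_right h.w2, h.wc _ (inv_mem a1)]

theorem exBad [Finite G] {k : G} (hk : k * w = w * k) (hN : k ∉ 𝒩(Q)) : ∃ D Y, Bad w Q D Y := by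
  obtain ⟨k, ⟨hk, hN⟩, hm⟩ := Set.Finite.exists_maximalFor h.S {k | k * w = w * k ∧ k ∉ 𝒩(Q)}
    (Set.toFinite _) ⟨k, hk, hN⟩
  let Y : Subgroup G :=
    { carrier := {y | y * w = w * y ∧ ∀ d ∈ h.S k, Ew w y d}
      one_mem' := ⟨by simp, fun d _ => Or.inl (by simp)⟩
      mul_mem' := by
        rintro a b ⟨a1, a2⟩ ⟨b1, b2⟩
        refine ⟨Commute.mul_left a1 b1, fun d hd => ?_⟩
        unfold Ew
        rw [show a * b * d * (a * b)⁻¹ = a * (b * d * b⁻¹) * a⁻¹ by group]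
        rcases b2 d hd with e | e <;> rw [e]
        · exact a2 d hd
        · rw [← conj_mul, a1, mul_inv_cancel_right]
          rcases a2 d hd with e | e <;> rw [e]
          · exact Or.inr rfl
          · exact Or.inl (by rw [mul_assoc, h.w2, mul_one])
      inv_mem' := fun ⟨a1, a2⟩ => ⟨Commute.inv_left a1, fun d hd => h.Ewi a1 (a2 d hd)⟩ }
  refine ⟨h.S k, Y, ⟨h.wQ, Or.inl (by rw [hk, mul_inv_cancel_right])⟩, fun _ e => e.1, fun _ e => e.1,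
    fun _ e => e.2, fun a ha => ⟨h.wc a ha, fun d hd => h.EwQ ha hd.1⟩, ⟨k, ⟨hk, fun _ e => e.2⟩, hN⟩,
    fun a ha aD y hy e => by_contra fun hy' => aD ?_⟩
  exact hm ⟨hy.1, hy'⟩ (fun d hd => ⟨hd.1, hy.2 d hd⟩) ⟨ha, e⟩

variable (b : Bad w Q D Y)
include b

theorem XD {x : G} (hx : IsConj c x) : x ∉ D := fun e => by
  obtain ⟨y, h1, h2⟩ := b.nY
  exact h2 (h.L3 (b.Yw y h1) (b.DQ e) hx (le_normalizer (b.DQ (cjD b h1 e))))

theorem TI0 {a y x : G} (ha : a ∈ Q) (aD : a ∉ D) (aa : a * a = 1) (hy : y ∈ Y) (h1 : x ∈ Q)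
    (h2 : IsConj c x) (h3 : y * a * y⁻¹ * x * (y * a * y⁻¹) = x ∨ y * a * y⁻¹ * x * (y * a * y⁻¹) = x * w) :
    y ∈ 𝒩(Q) := by
  have x' : y⁻¹ * x * y⁻¹⁻¹ ∈ Y := mul_mem (mul_mem (inv_mem hy) (b.QY h1)) (inv_mem (inv_mem hy))
  have yw : y⁻¹ * w = w * y⁻¹ := b.Yw _ (inv_mem hy)
  refine inv_mem_iff.1 (h.L3 yw h1 h2 (b.M a ha aD _ x' (h.Ews (h.wc a ha) (b.Yw _ x') ?_)))
  unfold Ew
  rw [inv_eq_of_mul_eq_one_right aa, show a * (y⁻¹ * x * y⁻¹⁻¹) * a =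
    y⁻¹ * (y * a * y⁻¹ * x * (y * a * y⁻¹)) * y⁻¹⁻¹ by group]
  refine h3.imp (fun e => by rw [e]) fun e => ?_
  rw [e, ← conj_mul, yw, mul_inv_cancel_right]

theorem TI1 {a y : G} (ha : a ∈ Q) (aD : a ∉ D) (aa : a * a = 1) (hy : y ∈ Y)
    (hQ : y * a * y⁻¹ ∈ Q) : y ∈ 𝒩(Q) := by
  refine h.TI0 b ha aD aa hy h.cQ (IsConj.refl c) ?_
  have := h.EwQ hQ h.cQ
  unfold Ew at this
  rwa [inv_eq_of_mul_eq_one_right (show y * a * y⁻¹ * (y * a * y⁻¹) = 1 by rw [conj_mul, aa]; simp)] at this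

theorem TI [Finite G] {a y : G} (ha : a ∈ Q) (aD : a ∉ D) (aa : a * a = 1) (hy : y ∈ Y)
    (hN : y * a * y⁻¹ ∈ 𝒩(Q)) : y ∈ 𝒩(Q) := by
  have uu : y * a * y⁻¹ * (y * a * y⁻¹) = 1 := by rw [conj_mul, aa]; simp
  rcases h.L2 _ hN uu with ng | ⟨x, h1, h2, h3⟩
  swap
  · exact h.TI0 b ha aD aa hy h1 h2 h3
  by_contra yN
  have uY : y * a * y⁻¹ ∈ Y := mul_mem (mul_mem hy (b.QY ha)) (inv_mem hy)
  obtain ⟨u, hu⟩ : ∃ u, u = y * a * y⁻¹ := ⟨_, rfl⟩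
  rw [← hu] at hN uu ng uY
  have ui : u⁻¹ = u := inv_eq_of_mul_eq_one_right uu
  have DE : D ≤ h.S u := fun d hd => ⟨b.DQ hd, b.YD u uY d hd⟩
  have EQ : h.S u ≤ Q := fun _ e => e.1
  have E2 : ∀ e ∈ h.S u, e * e = 1 := fun e he => (h.ngE u ng e he.1 he.2).1
  have Ei : ∀ e ∈ h.S u, e⁻¹ = e := fun e he => inv_eq_of_mul_eq_one_right (E2 e he)
  have Ec : ∀ e ∈ h.S u, ∀ f ∈ h.S u, e * f = f * e := fun e he f hf => by
    rw [← Ei _ (mul_mem he hf), mul_inv_rev, Ei e he, Ei f hf]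
  have mE : ∀ q ∈ Q, q * (u * q⁻¹ * u⁻¹) ∈ h.S u := fun q hq => by
    have mQ := mul_mem hq (cjN hN (inv_mem hq))
    refine ⟨mQ, ?_⟩
    have e : u * (q * (u * q⁻¹ * u⁻¹)) * u⁻¹ = (q * (u * q⁻¹ * u⁻¹))⁻¹ := by
      calc _ = u * q * (u * u⁻¹⁻¹) * u⁻¹ * q⁻¹ * (u * u)⁻¹ := by group
        _ = _ := by rw [inv_inv, uu]; group
    unfold Ew
    rw [e]
    refine (h.sq _ mQ).imp inv_eq_of_mul_eq_one_right fun s => inv_eq_of_mul_eq_one_right ?_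
    rw [← mul_assoc, s, h.w2]
  have cE : Nat.card (h.S u) = 2 ^ 13 := by
    have e := h.ex.card_cent EQ (DE b.wD)
    rw [show Q ⊓ centralizer (h.S u : Set G) = h.S u from le_antisymm
      (fun x hx => ⟨hx.1, (h.ngC u ng x hx.1).1 fun q hq => (hx.2 _ (mE q hq)).symm⟩)
      fun x hx => ⟨hx.1, fun f hf => Ec f hf x hx⟩, h.card] at e
    exact Nat.mul_self_inj.1 (e.trans (by norm_num))
  let B : Subgroup G :=
    { carrier := {q | q ∈ Q ∧ q * (u * q⁻¹ * u⁻¹) ∈ D}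
      one_mem' := ⟨one_mem _, by simp⟩
      mul_mem' := by
        rintro p q ⟨p1, p2⟩ ⟨q1, q2⟩
        exact ⟨mul_mem p1 q1, by convert mul_mem (cjD b (b.QY p1) q2) p2 using 1; group⟩
      inv_mem' := by
        rintro p ⟨p1, p2⟩
        exact ⟨inv_mem p1, by convert cjD b (b.QY (inv_mem p1)) (inv_mem p2) using 1; group⟩ }
  have EB : h.S u ≤ B := fun e he => ⟨he.1, by
    rcases (inv_mem he).2 with s | s <;> rw [s]
    · simp
    · simpa using b.wD⟩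
  have tr : ∀ x ∈ D, y⁻¹ * x * y⁻¹⁻¹ ∈ D := fun x hx => cjD b (inv_mem hy) hx
  have good : ∀ q ∈ B, q ∉ D → ∀ d ∈ D, q * d * (q * d) = 1 → Ng (y⁻¹ * q * y⁻¹⁻¹) := by
    intro q hq qD d hd e
    have hp := mul_mem hq (EB (DE hd))
    have kY : y⁻¹ * (q * d) * y⁻¹⁻¹ ∈ Y :=
      mul_mem (mul_mem (inv_mem hy) (b.QY hp.1)) (inv_mem (inv_mem hy))
    have kN := h.TI1 b ha aD aa kY (by
      convert mul_mem (b.DQ (tr _ hp.2)) ha using 1
      rw [hu]; group)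
    rcases h.L2 _ kN (by rw [conj_mul, e]; simp) with n | ⟨x, h1, h2, h3⟩
    · convert h.ngQ _ n _ (b.DQ (tr _ (inv_mem hd))) using 1
      group
    · exact absurd (inv_mem_iff.1 (h.TI0 b hp.1 (fun s => qD ((mul_mem_cancel_right hd).1 s)) e
        (inv_mem hy) h1 h2 h3)) yN
  have fin : ∀ H H' : Subgroup G, 4 * Nat.card H' < Nat.card H →
      (∀ q ∈ H, q ∉ H' → Ng (y⁻¹ * q * y⁻¹⁻¹)) → False := fun H H' hc hg => by
    obtain ⟨b1, a1, n1, -⟩ := Top.avoid hc 1 1 1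
    obtain ⟨b2, a2, n2, n12, -⟩ := Top.avoid hc b1 1 1
    obtain ⟨b3, a3, n3, n13, n23, n123⟩ := Top.avoid hc b1 b2 (b1 * b2)
    refine h.ng3 _ _ _ (hg b1 a1 n1) (hg b2 a2 n2) (hg b3 a3 n3) ?_ ?_ ?_ ?_ <;>
      simp only [conj_mul]
    exacts [hg _ (mul_mem a1 a2) n12, hg _ (mul_mem a1 a3) n13, hg _ (mul_mem a2 a3) n23,
      hg _ (mul_mem (mul_mem a1 a2) a3) n123]
  by_cases cD : Nat.card D < 2 ^ 11
  · exact fin (h.S u) D (by omega) fun q hq n => good q (EB hq) n 1 (one_mem _) (by simpa using E2 q hq)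
  have i1 : B.relIndex Q ≤ D.relIndex (h.S u) :=
    Top.index_le (B.subgroupOf Q) (fun q => ((⟨_, mE q q.2⟩ : h.S u) : h.S u ⧸ D.subgroupOf (h.S u)))
      fun p q e => ⟨(p⁻¹ * q).2, by
        have e1 : ((p : G) * (u * (p : G)⁻¹ * u⁻¹))⁻¹ * (q * (u * (q : G)⁻¹ * u⁻¹)) ∈ D :=
          mem_subgroupOf.1 (QuotientGroup.eq.1 e)
        rw [Ec _ (inv_mem (mE p p.2)) _ (mE q q.2)] at e1
        convert cjD b (b.QY (inv_mem p.2)) e1 using 1
        simp only [coe_subtype, coe_mul, coe_inv]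
        group⟩
  have i2 := (D.subgroupOf (h.S u)).card_mul_index
  have i3 := (B.subgroupOf Q).card_mul_index
  rw [Nat.card_congr (subgroupOfEquivOfLe DE).toEquiv, cE] at i2
  rw [Nat.card_congr (subgroupOfEquivOfLe (show B ≤ Q from fun _ e => e.1)).toEquiv, h.card] at i3
  have i4 := h.ex.card_cent b.DQ b.wD
  rw [h.card] at i4
  change _ * D.relIndex _ = _ at i2
  change _ * B.relIndex _ = _ at i3
  have i5 : D.relIndex (h.S u) ≤ 4 := by nlinarith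
  have i6 : 2 ^ 23 ≤ Nat.card B := by nlinarith
  have i7 : Nat.card (Q ⊓ centralizer (D : Set G) : Subgroup G) ≤ 2 ^ 15 := by nlinarith
  refine fin B (Q ⊓ centralizer (D : Set G)) (by omega) fun q hq n => ?_
  have qD : q ∉ D := fun s => n ⟨hq.1, fun d hd => Ec d (DE hd) q (DE s)⟩
  rcases h.sq q hq.1 with s | s
  · exact good q hq qD 1 (one_mem _) (by simpa using s)
  obtain ⟨d, hd, e⟩ : ∃ d ∈ D, d * q ≠ q * d := by
    by_contra! e
    exact n ⟨hq.1, e⟩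
  refine good q hq qD d hd ?_
  calc _ = q * (d * q) * d := by group
    _ = w * (q * q) * (d * d) := by
      rw [(h.comm d (b.DQ hd) q hq.1).resolve_left e, ← mul_assoc q, h.wc q hq.1]; group
    _ = 1 := by rw [s, h.w2, E2 d (DE hd), one_mul]

theorem II {i y : G} (hy : y ∈ Y) (hN : y ∉ 𝒩(Q)) (hi : i ∈ Q) (hi' : y⁻¹ * i * y ∈ Q) : i ∈ D := by
  by_contra e
  have yw := b.Yw y hy
  refine hN (h.L3 yw h.cQ (IsConj.refl c) (b.M i hi e _
    (mul_mem (mul_mem hy (b.QY h.cQ)) (inv_mem hy)) ?_))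
  unfold Ew
  rw [show y * c * y⁻¹ * i * (y * c * y⁻¹)⁻¹ = y * (c * (y⁻¹ * i * y) * c⁻¹) * y⁻¹ by group]
  refine (h.EwQ h.cQ hi').imp (fun e => by rw [e]; group) fun e => ?_
  rw [e, ← conj_mul, yw]; group

theorem JJ [Finite G] {p q j g : G} (hp : p ∈ Q) (pD : p ∉ D) (pp : p * p = 1) (hq : q ∈ Q) (qD : q ∉ D)
    (qq : q * q = 1) (hj : j ∈ Y) (hg : g ∈ Y) (e1 : (j * p * j⁻¹)⁻¹ * p ∈ D)
    (e2 : (g * q * g⁻¹)⁻¹ * (p * j) ∈ D) : j ∈ Q := by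
  have jN := h.TI b hp pD pp hj (le_normalizer (inv_mem_iff.1 ((mul_mem_cancel_right hp).1 (b.DQ e1))))
  have gN := h.TI b hq qD qq hg (inv_mem_iff.1
    ((mul_mem_cancel_right (mul_mem (le_normalizer hp) jN)).1 (le_normalizer (b.DQ e2))))
  exact (mul_mem_cancel_left hp).1 ((mul_mem_cancel_left (inv_mem (cjN gN hq))).1 (b.DQ e2))

theorem TT [Finite G] {p q : G} (hp : p ∈ Q) (pD : p ∉ D) (pp : p * p = 1) (hq : q ∈ Q) (qD : q ∉ D)
    (qq : q * q = 1) : ∃ k ∈ Y, k ∈ 𝒩(Q) ∧ ∃ d ∈ D, k * p * k⁻¹ = q * d := by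
  obtain ⟨y, hy, hN⟩ := b.nY
  have tr : ∀ x ∈ D, y⁻¹ * x * y ∈ D := fun x hx => by simpa using cjD b (inv_mem hy) hx
  rcases dihMod (YN b) (b.QY hp) (mul_mem (mul_mem hy (b.QY hq)) (inv_mem hy)) pp
    (by rw [conj_mul, qq]; simp) with ⟨g, hg, e⟩ | ⟨i, hi, iD, e1, e2, ⟨g, hg, r, hr, e3⟩, g', hg', r', hr', e4⟩
  · have hk := mul_mem (inv_mem hy) hg
    have e1 : y⁻¹ * g * p * (y⁻¹ * g)⁻¹ = q * (y⁻¹ * ((g * p * g⁻¹)⁻¹ * (y * q * y⁻¹)) * y)⁻¹ := by group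
    have d1 := inv_mem (tr _ e)
    exact ⟨_, hk, h.TI b hp pD pp hk (e1 ▸ le_normalizer (mul_mem hq (b.DQ d1))), _, d1, e1⟩
  refine absurd (h.II b hy hN ?_ ?_) iD
  · rcases hr with rfl | rfl
    · exact h.JJ b hp pD pp hp pD pp hi hg e1 e3
    · exact h.JJ b hp pD pp hq qD qq hi (mul_mem hg hy) e1 (by convert e3 using 2; group)
  · have hj := mul_mem (mul_mem (inv_mem hy) hi) hy
    have e5 : (y⁻¹ * i * y * q * (y⁻¹ * i * y)⁻¹)⁻¹ * q ∈ D := by convert tr _ e2 using 1; group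
    rcases hr' with rfl | rfl
    · exact h.JJ b hq qD qq hp pD pp hj (mul_mem (inv_mem hy) hg') e5 (by
        convert tr _ e4 using 1; group)
    · exact h.JJ b hq qD qq hq qD qq hj (mul_mem (mul_mem (inv_mem hy) hg') hy) e5 (by
        convert tr _ e4 using 1; group)

theorem Tchi [Finite G] {p q : G} (hp : p ∈ Q) (p1 : IsConj c p) (hq : q ∈ Q) (q1 : IsConj c q) :
    ∃ d ∈ D, ∀ x ∈ D, p * x = x * p ↔ (q * x = x * q ↔ d * x = x * d) := by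
  obtain ⟨k, hk, kN, d, hd, e⟩ := h.TT b hp (h.XD b p1) (h.inv p1) hq (h.XD b q1) (h.inv q1)
  refine ⟨d, hd, fun x hx => ?_⟩
  rw [← h.add hq (b.DQ hd) (b.DQ hx), ← (MulAut.conj k).injective.eq_iff, map_mul, map_mul]
  simp only [MulAut.conj_apply]
  rw [e]
  rcases b.YD k hk x hx with e | e <;> rw [e]
  rw [← mul_assoc, mul_assoc x, ← h.wc _ (mul_mem hq (b.DQ hd)), ← mul_assoc, mul_left_inj]

theorem QED [Finite G] {a : G} (ha : a ∈ Q) :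
    ∃ e ∈ Q, (∀ d ∈ D, e * d = d * e) ∧ ∃ d ∈ D, a = e * d := by
  let F : Subgroup G :=
    { carrier := {a | a ∈ Q ∧ ∃ d ∈ D, ∀ x ∈ D, a * x = x * a ↔ d * x = x * d}
      one_mem' := ⟨one_mem _, 1, one_mem _, by simp⟩
      mul_mem' := by
        rintro a a' ⟨a1, d, d1, d2⟩ ⟨a1', d', d1', d2'⟩
        refine ⟨mul_mem a1 a1', d * d', mul_mem d1 d1', fun x hx => ?_⟩
        rw [h.add a1 a1' (b.DQ hx), h.add (b.DQ d1) (b.DQ d1') (b.DQ hx), d2 x hx, d2' x hx]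
      inv_mem' := by
        rintro a ⟨a1, d, d1, d2⟩
        exact ⟨inv_mem a1, d, d1, fun x hx => Commute.inv_left_iff.trans (d2 x hx)⟩ }
  obtain ⟨z, hz, -, z1, z2⟩ := h.tri
  obtain ⟨d0, d1, d2⟩ := h.Tchi b (mul_mem h.cQ hz) z2 hz z1
  have d3 : ∀ x ∈ D, c * x = x * c ↔ d0 * x = x * d0 := fun x hx => by
    have := d2 x hx
    rw [h.add h.cQ hz (b.DQ hx)] at this
    tauto
  have : closure {x | x ∈ Q ∧ IsConj c x} ≤ F := (closure_le _).2 fun x ⟨x1, x2⟩ => by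
    obtain ⟨d, e1, e2⟩ := h.Tchi b x1 x2 h.cQ (IsConj.refl c)
    refine ⟨x1, d0 * d, mul_mem d1 e1, fun y hy => ?_⟩
    rw [h.add (b.DQ d1) (b.DQ e1) (b.DQ hy), e2 y hy, d3 y hy]
  obtain ⟨-, d, e1, e2⟩ := this (h.gen ha)
  exact ⟨a * d, mul_mem ha (b.DQ e1), fun x hx => (h.add ha (b.DQ e1) (b.DQ hx)).2 (e2 x hx),
    d⁻¹, inv_mem e1, by group⟩

theorem notBad [Finite G] : False := by
  by_cases hD : ∀ d ∈ D, d = 1 ∨ d = w
  · obtain ⟨y, y1, y2, y3, y4, y5⟩ := h.q12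
    obtain ⟨k, -, hk, d, hd, e⟩ := h.TT b h.cQ (h.XD b (IsConj.refl c)) h.c2 y1
      (fun e => (hD y e).elim y3 y4) y2
    have e1 := cj1 k (IsConj.refl c)
    rw [e] at e1
    rcases hD d hd with rfl | rfl
    · exact y5 (by rwa [mul_one] at e1)
    · exact y5 (by simpa [mul_assoc, h.w2] using h.xw (mul_mem y1 h.wQ) e1)
  have ED : ∀ e ∈ D, (∀ d ∈ D, e * d = d * e) → e = 1 ∨ e = w := fun e h1 h2 =>
    h.cen e (b.DQ h1) fun a ha => by
      obtain ⟨e', -, e1, d, hd, rfl⟩ := h.QED b ha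
      exact Commute.mul_right (e1 e h1).symm (h2 d hd)
  obtain ⟨d4, d4D, d4w⟩ : ∃ d ∈ D, d * d = w := by
    by_contra! e
    have s : ∀ d ∈ D, d⁻¹ = d := fun d hd =>
      inv_eq_of_mul_eq_one_right ((h.sq d (b.DQ hd)).resolve_right (e d hd))
    exact hD fun d hd => ED d hd fun x hx => by
      rw [← s _ (mul_mem hd hx), mul_inv_rev, s d hd, s x hx]
  have io : ∀ e ∈ Q, (∀ d ∈ D, e * d = d * e) → ∃ d ∈ D, e * d * (e * d) = 1 := fun e h1 h2 => by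
    rcases h.sq e h1 with s | s
    · exact ⟨1, one_mem _, by simpa using s⟩
    · exact ⟨d4, d4D, by rw [mul_assoc, ← mul_assoc d4, ← h2 d4 d4D, mul_assoc, ← mul_assoc, s, d4w, h.w2]⟩
  have same : ∀ e ∈ Q, (∀ d ∈ D, e * d = d * e) → e ∉ D → ∀ e' ∈ Q, (∀ d ∈ D, e' * d = d * e') →
      e' ∉ D → e * e = e' * e' := by
    intro e h1 h2 h3 e' h1' h2' h3'
    obtain ⟨d, d1, d2⟩ := io e h1 h2
    obtain ⟨d', d1', d2'⟩ := io e' h1' h2'
    obtain ⟨k, k1, k2, x, x1, x2⟩ := h.TT b (mul_mem h1 (b.DQ d1))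
      (fun a => h3 ((mul_mem_cancel_right d1).1 a)) d2 (mul_mem h1' (b.DQ d1'))
      (fun a => h3' ((mul_mem_cancel_right d1').1 a)) d2'
    have e1 : e'⁻¹ * (k * e * k⁻¹) = d' * x * (k * d * k⁻¹)⁻¹ := by
      rw [inv_mul_eq_iff_eq_mul, ← mul_assoc, ← mul_assoc, ← x2]; group
    have e2 := ED _ (e1 ▸ mul_mem (mul_mem d1' x1) (inv_mem (cjD b k1 d1))) fun y hy =>
      Commute.mul_left (Commute.inv_left (h2' y hy)) (by
        have := h2 _ (cjD b (inv_mem k1) hy)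
        change _ * _ = _ * _
        calc _ = k * (e * (k⁻¹ * y * k⁻¹⁻¹)) * k⁻¹ := by group
          _ = _ := by rw [this]; group)
    have e3 : k * (e * e) * k⁻¹ = e * e := by
      rcases h.sq e h1 with s | s <;> rw [s]
      · group
      · rw [h.wN k2, mul_inv_cancel_right]
    rw [← e3, ← conj_mul]
    rcases e2 with s | s <;> rw [inv_mul_eq_iff_eq_mul] at s <;> rw [s]
    · rw [mul_one]
    · rw [mul_assoc, ← mul_assoc w, ← h.wc e' h1', mul_assoc, h.w2, mul_one]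
  obtain ⟨z, hz, -, z1, z2⟩ := h.tri
  obtain ⟨e1, a1, a2, d1, a3, a4⟩ := h.QED b h.cQ
  obtain ⟨e2, b1, b2, d2, b3, b4⟩ := h.QED b hz
  have n1 : e1 ∉ D := fun e => h.XD b (IsConj.refl c) (a4 ▸ mul_mem e a3)
  have n2 : e2 ∉ D := fun e => h.XD b z1 (b4 ▸ mul_mem e b3)
  have n3 : e1 * e2 ∉ D := fun e => h.XD b z2 (by
    rw [a4, b4, mul_assoc, ← mul_assoc d1, ← b2 d1 a3, mul_assoc, ← mul_assoc]
    exact mul_mem e (mul_mem a3 b3))
  have cm : ∀ e e' : G, (∀ d ∈ D, e * d = d * e) → (∀ d ∈ D, e' * d = d * e') →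
      ∀ d ∈ D, e * e' * d = d * (e * e') := fun e e' h1 h2 d hd => Commute.mul_left (h1 d hd) (h2 d hd)
  rcases h.sq e1 a1 with s | s
  · have s' : ∀ e ∈ Q, (∀ d ∈ D, e * d = d * e) → e⁻¹ = e := fun e h1 h2 =>
      inv_eq_of_mul_eq_one_right (by
        by_cases h3 : e ∈ D
        · rcases ED e h3 h2 with rfl | rfl
          exacts [one_mul _, h.w2]
        · rw [same e h1 h2 h3 e1 a1 a2 n1, s])
    refine n1 ((h.cen e1 a1 fun a ha => ?_).elim (fun e => e ▸ one_mem _) fun e => e ▸ b.wD)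
    obtain ⟨e, h1, h2, d, hd, rfl⟩ := h.QED b ha
    refine Commute.mul_right ?_ (a2 d hd)
    change _ * _ = _ * _
    rw [← s' _ (mul_mem a1 h1) (cm _ _ a2 h2), mul_inv_rev, s' e h1 h2, s' e1 a1 a2]
  · obtain ⟨x, x1, x2, x3, x4⟩ := h.q11 e1 a1 e2 b1
    obtain ⟨e, h1, h2, d, hd, rfl⟩ := h.QED b x1
    have n4 : e ∉ D := fun a => h.XD b x2 (mul_mem a hd)
    have key : ∀ f ∈ Q, (∀ d ∈ D, f * d = d * f) → f ∉ D → e * d * f = f * (e * d) → e * f ∈ D := by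
      intro f f1 f2 f3 f4
      rw [mul_assoc, ← f2 d hd, ← mul_assoc, ← mul_assoc, mul_left_inj] at f4
      by_contra f5
      have := same _ (mul_mem h1 f1) (cm _ _ h2 f2) f5 e1 a1 a2 n1
      rw [mul_assoc, ← mul_assoc f, ← f4, mul_assoc, ← mul_assoc, same e h1 h2 n4 e1 a1 a2 n1,
        same f f1 f2 f3 e1 a1 a2 n1, s, h.w2] at this
      exact h.w1 this.symm
    refine n3 ?_
    rw [show e1 * e2 = e1 * e1 * ((e * e1)⁻¹ * (e * e2)) by group, s]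
    exact mul_mem b.wD (mul_mem (inv_mem (key e1 a1 a2 n1 x3)) (key e2 b1 b2 n2 x4))

omit b in
theorem KN0 [Finite G] {k : G} (hk : k * w = w * k) : k ∈ 𝒩(Q) := by
  by_contra e
  obtain ⟨D, Y, b⟩ := h.exBad hk e
  exact h.notBad b

end TopB

theorem TopB.KN {G : Type*} [Group G] [Finite G] {c w : G} {Q : Subgroup G} {Ng : G → Prop}
    (h : TopB c w Q Ng) {k : G} (hk : k * w = w * k) : k ∈ normalizer (Q : Set G) := h.KN0 hk

end Cfsg.Agent.SBM
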