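import Cfsg.Agent.SBM.LatA
import Cfsg.Agent.SBM.Db1

set_option autoImplicit false

namespace Cfsg.Agent.SBM

open Subgroup H15 H38.MT

variable {M : Type*} [Group M] [Finite M] {z t : M} {Q : Subgroup M}
  {π : centralizer ({z} : Set M) →* Spor.Co1} {R : M → leechLattice → Prop}

namespace MF

/-- `a ∈ ⟨t, c⟩` -/
def P (t c a : M) : Prop := a = 1 ∨ a = t ∨ a = c ∨ a = c * t

/-- two conjugates of `z` under `C(t)`, independent modulo `⟨t, c⟩`, with `c` in their extraspecial groups -/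
def Two (z t : M) (Q : Subgroup M) (c : M) : Prop :=
  ∃ g1 g2, Commute g1 t ∧ Commute g2 t ∧ g1⁻¹ * c * g1 ∈ Q ∧ g2⁻¹ * c * g2 ∈ Q ∧
    ¬ P t c (g1 * z * g1⁻¹ * (g2 * z * g2⁻¹))

variable (m : Mod z t Q π R)
include m

theorem two_w {d : M} (h1 : IsConj z d) (h2 : IsConj z (t * d)) : Two z t Q d := by
  have md := m.md
  have td : Commute t d := by
    have e := m.sqz h2
    rw [Commute, SemiconjBy, ← inv_eq_of_mul_eq_one_right e, mul_inv_rev,
      inv_eq_of_mul_eq_one_right m.t2, inv_eq_of_mul_eq_one_right (m.sqz h1)]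
  obtain ⟨g, rfl⟩ := isConj_iff.1 h1
  obtain ⟨s, rs⟩ : ∃ s, t = g * s * g⁻¹ := ⟨g⁻¹ * t * g, by group⟩
  have s2 : IsConj t s := (isConj_iff.2 ⟨g, rs.symm⟩).symm
  have ss := m.sq s2
  have si := inv_eq_of_mul_eq_one_right ss
  have sz : Commute s z := (MulAut.conj g).injective (by
    simp only [map_mul, MulAut.conj_apply, ← rs]; exact td)
  have zs : IsConj z (z * s) := by
    rw [rs, conj_mul, sz.eq] at h2
    exact h2.trans (isConj_iff.2 ⟨g, rfl⟩).symm
  have sQ : s ∉ Q := fun e =>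
    let ⟨_, r, n⟩ := m.lab32 e s2; m.excl (m.of32 (md.zmul r) n) zs
  obtain ⟨k, o⟩ := ov_ex π (mem_centralizer_singleton_iff.2 sz)
  have lab : ∀ {q x}, R q x → R (q * (s * q⁻¹ * s⁻¹)) (x + k • x) := fun r => md.mul r (o.lab md (md.inv r))
  rcases inv_cases (o.sq md ss) with rfl | rfl | ⟨x, e⟩ | ⟨x, y, x', y', nx, ny, cx, cy, n⟩
  · exact absurd (o.one md) sQ
  · exact absurd (Ov.one md (by simpa [negC_sq] using o.neg)) sQ
  · obtain ⟨q, r⟩ := md.ex' x
    have e1 := (md.lx.sqr _ (md.mem (lab r))).resolve_left fun e' => e ((md.sq_iff (lab r)).1 e')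
    refine absurd zs (m.excl (s2.trans (isConj_iff.2 ⟨q * (s * q⁻¹ * s⁻¹), ?_⟩)))
    rw [← e1, si]
    calc _ = q * s * q⁻¹ * s * s * s⁻¹ * q * s⁻¹ * q⁻¹ := by group
      _ = q * s * q⁻¹ * s * q * s * q⁻¹ * (s * s) := by rw [ss, si, mul_assoc _ s s, mul_assoc _ s (s * s), ss]; group
      _ = _ := by group
  have key : ∀ {v v' : leechLattice}, sqNorm (v' : Vec) = 64 → Cg (v + k • v) v' → ∃ a, R (a * z * a⁻¹) v' ∧
      Commute (g * a) t ∧ (g * a)⁻¹ * (g * z * g⁻¹) * (g * a) ∈ Q := fun {v v'} n c => by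
    obtain ⟨q, r⟩ := md.ex' v
    have r' := lab_cg md (lab r) c.symm
    obtain ⟨a, a1, a2⟩ := m.pair s2 (m.of64 r' n) (s2.trans (isConj_iff.2 ⟨s * q, by group⟩))
    rw [← a2] at r'
    refine ⟨a, r', mul_inv_eq_iff_eq_mul.1 (by
      rw [show g * a * t * (g * a)⁻¹ = g * (a * t * a⁻¹) * g⁻¹ by group, a1, ← rs]), ?_⟩
    simpa [mul_assoc] using
      mem_cjs.1 (md.mem_cjs_of_mem (md.mem r') (md.ne_of_short r' (by omega) (by omega)).2)
  obtain ⟨a, a1, a2, a3⟩ := key nx cx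
  obtain ⟨b, b1, b2, b3⟩ := key ny cy
  refine ⟨g * a, g * b, a2, b2, a3, b3, fun e => ?_⟩
  have r := md.mul a1 b1
  have n' : ¬ (a * z * a⁻¹ * (b * z * b⁻¹) = 1 ∨ a * z * a⁻¹ * (b * z * b⁻¹) = z) := fun e =>
    let ⟨w, e⟩ := (md.one_iff r).1 e; n ⟨w - y', by rw [eq_sub_of_add_eq e]; abel⟩
  rw [show g * a * z * (g * a)⁻¹ * (g * b * z * (g * b)⁻¹) = g * (a * z * a⁻¹ * (b * z * b⁻¹)) * g⁻¹ by group,
    rs] at e
  rcases e with e | e | e | e
  · exact n' (.inl (conj_eq_one_iff.1 e))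
  · exact sQ ((MulAut.conj g).injective e ▸ md.mem r)
  · exact n' (.inr ((MulAut.conj g).injective e))
  · rw [conj_mul] at e
    exact sQ ((mul_mem_cancel_left md.lx.mem).1 ((MulAut.conj g).injective e ▸ md.mem r))

theorem weak {c y : M} (cQ : c ∈ Q) (hc : Commute c t)
    (hy : ∀ x, Commute x t → Commute x c → Commute x y) : P t c y ∨ P t c (z * y) := by
  have md := m.md
  obtain ⟨γ, rc⟩ := md.ex c cQ
  obtain ⟨k, o⟩ := ov_ex π (mem_centralizer_singleton_iff.2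
    (hy z m.tz.symm (md.lx.cen c cQ).symm).symm)
  have cm : ∀ {x v}, R x v → Pp v uu → Pp v γ → Commute x y := fun r e1 e2 =>
    hy _ ((m.comm_t r).2 e1) ((md.comm_iff r rc).2 e2)
  have yQ : y ∈ Q := by
    rcases fix2 (k := k) uu γ fun v e1 e2 => by
        obtain ⟨x, r⟩ := md.ex' v
        have := o.lab md r
        rw [← (cm r e1 e2).eq, mul_inv_cancel_right] at this
        exact md.congr r this with rfl | rfl
    · exact o.one md
    · exact Ov.one md (by simpa [negC_sq] using o.neg)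
  obtain ⟨η, ry⟩ := md.ex y yQ
  have fin : ∀ {q v}, R q v → Cg η v → P t c q → P t c y ∨ P t c (z * y) := fun r e p => by
    rcases md.uniq (lab_cg md r e) ry with rfl | rfl
    · exact .inl p
    · exact .inr (by rwa [md.zz])
  rcases perp2 md uu γ (f := η) fun v e1 e2 => by
      obtain ⟨x, r⟩ := md.ex' v
      exact (md.comm_iff r ry).1 (cm r e1 e2) with e | e | e | e
  exacts [fin (by simpa using md.two 0) e (.inl rfl), fin m.lt e (.inr (.inl rfl)),
    fin rc e (.inr (.inr (.inl rfl))), fin (md.mul m.lt rc) e (.inr (.inr (.inr hc.symm)))]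

omit [Finite M] m in
theorem Two.cj {c h : M} (hh : Commute h t) (w : Two z t Q c) : Two z t Q (h * c * h⁻¹) := by
  obtain ⟨a, b, a1, b1, a2, b2, n⟩ := w
  refine ⟨h * a, h * b, hh.mul_left a1, hh.mul_left b1, by simpa [mul_assoc] using a2,
    by simpa [mul_assoc] using b2, fun e => n ?_⟩
  have f : h * t * h⁻¹ = t := by rw [hh.eq, mul_inv_cancel_right]
  rw [show h * a * z * (h * a)⁻¹ * (h * b * z * (h * b)⁻¹) = h * (a * z * a⁻¹ * (b * z * b⁻¹)) * h⁻¹ by group,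
    P, ← f, conj_mul] at e
  have i : ∀ {x y : M}, h * x * h⁻¹ = h * y * h⁻¹ → x = y := fun e => (MulAut.conj h).injective e
  exact e.imp conj_eq_one_iff.1 fun e => e.imp i fun e => e.imp i i

theorem Two.mul {c : M} (w : Two z t Q (c * t)) : Two z t Q c := by
  obtain ⟨a, b, a1, b1, a2, b2, n⟩ := w
  have k : ∀ {a}, Commute a t → a⁻¹ * (c * t) * a ∈ Q → a⁻¹ * c * a ∈ Q := fun e e' => by
    rwa [mul_assoc, mul_assoc, ← e.eq, ← mul_assoc, ← mul_assoc, mul_mem_cancel_right m.tQ] at e'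
  refine ⟨a, b, a1, b1, k a1 a2, k b1 b2, fun e => n ?_⟩
  rw [P, mul_assoc c, m.t2, mul_one]
  exact e.imp_right (Or.imp_right Or.symm)

theorem two_A {c : M} (h : IsConj t c) (h' : IsConj t (t * c) ∨ IsConj z (t * c)) : Two z t Q c := by
  have md := m.md
  obtain ⟨w, rw'⟩ := md.ex' (e8 none)
  obtain ⟨g, g1, rfl⟩ := m.ztype (m.of64 rw' (norm_e8 _)) (m.of32 (md.mul (md.neg m.lt) rw') (by decide +kernel))
  rcases h' with h' | h'
  · obtain ⟨s, r⟩ := md.ex' bb
    have ts := (m.adj m.lt r sqNorm_uu norm_bb).2 (.inl dot_uu_bb)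
    obtain ⟨a, a1, rfl⟩ := m.s1 s c (m.of32 r norm_bb) h ts h'
    refine Two.cj a1 ⟨1, g, .one_left t, g1, by simpa using md.mem r, mem_cjs.1 (m.q5' (m.of32 r norm_bb)
      (m.of32 (md.mul (md.neg r) rw') (by decide +kernel))), ?_⟩
    have r1 := md.zmul rw'
    have c1 := m.of64 r1 (norm_e8 _)
    rw [one_mul, inv_one, mul_one]
    rintro (e | e | e | e)
    · exact (md.ne_of_short r1 (by decide +kernel) (by decide +kernel)).1 e
    · exact m.nc (e ▸ c1)
    · exact m.excl (m.of32 r norm_bb) (e ▸ c1)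
    · exact m.excl ((m.adj r m.lt norm_bb sqNorm_uu).2 (.inl (by decide +kernel))) (e ▸ c1)
  · obtain ⟨a, a1, rfl⟩ := m.s2 c h h'
    obtain ⟨w', r⟩ := md.ex' (uu + w4 (some 1) (some 2) 1 rfl)
    obtain ⟨b, b1, rfl⟩ := m.ztype (m.of64 r (by decide +kernel))
      (m.of32 (md.mul (md.neg m.lt) r) (by decide +kernel))
    have k : ∀ {a} {v : leechLattice}, Commute a t → R (a * z * a⁻¹) v → sqNorm (v : Vec) = 64 → a⁻¹ * (t * z) * a ∈ Q :=
      fun e r n => by
        rw [← mul_assoc, e.inv_left.eq, mul_assoc, mul_assoc, mul_mem_cancel_left m.tQ, ← mul_assoc]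
        exact mem_cjs.1 (md.mem_cjs_of_mem (md.mem r) (md.ne_of_short r (by omega) (by omega)).2)
    refine Two.cj a1 ⟨g, b, g1, b1, k g1 rw' (norm_e8 _), k b1 r (by decide +kernel), ?_⟩
    have r1 := md.mul rw' (md.neg r)
    have c1 := m.of64 r1 (by decide +kernel)
    have n := md.ne_of_short r1 (by decide +kernel) (by decide +kernel)
    rintro (e | e | e | e)
    · exact n.1 e
    · exact m.nc (e ▸ c1)
    · exact m.excl m.c_tz (e ▸ c1)
    · exact n.2 (by rw [e, m.tz.eq, mul_assoc, m.t2, mul_one])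

end MF

open MF

theorem Mod.dtype (m : Mod z t Q π R) {d : M} (h1 : IsConj z d) (h2 : IsConj z (t * d)) :
    ∃ g, Commute g t ∧ g⁻¹ * d * g ∈ Q :=
  let ⟨g, _, e, _, e', _⟩ := two_w m h1 h2; ⟨g, e, e'⟩

theorem Mod.F (m : Mod z t Q π R) {c y : M} (hc : Commute c t) (c2 : c * c = 1) (c1 : c ≠ 1) (ct : c ≠ t)
    (hy : ∀ x, Commute x t → Commute x c → Commute x y) : y = 1 ∨ y = t ∨ y = c ∨ y = c * t := by
  have t2 := m.t2
  have e1 : t * (c * t) = c := by rw [hc.eq, ← mul_assoc, t2, one_mul]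
  have e2 : t * c * (t * c) = 1 := by rw [mul_assoc, ← mul_assoc c, ← mul_assoc, e1, c2]
  have n : t * c ≠ 1 := fun e => ct (by rw [← e1, hc.eq, e, mul_one])
  obtain ⟨a, b, a1, b1, a2, b2, w⟩ : Two z t Q c := by
    rcases (m.two c c2).resolve_left c1 with h | h
    · exact two_A m h ((m.two _ e2).resolve_left n)
    rcases (m.two _ e2).resolve_left n with h' | h'
    · exact Two.mul m (two_A m (hc.eq ▸ h') (.inr (e1.symm ▸ h)))
    · exact two_w m h h'
  rcases weak (m.cj a1) (mem_cjs.2 a2) hc hy with e | e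
  · exact e
  rcases weak (m.cj b1) (mem_cjs.2 b2) hc hy with e' | e'
  · exact e'
  refine absurd ?_ w
  have i := inv_eq_of_mul_eq_one_right (m.sqz (isConj_iff.2 ⟨b, rfl⟩))
  rw [show a * z * a⁻¹ * (b * z * b⁻¹) = a * z * a⁻¹ * y * (b * z * b⁻¹ * y)⁻¹ by rw [mul_inv_rev, i]; group]
  have e3 : c * (c * t) = t := by rw [← mul_assoc, c2, one_mul]
  have e4 : t * c = c * t := hc.symm
  have e5 : c * (t * c) = t := by rw [e4, e3]
  have e6 : t * (t * c) = c := by rw [← mul_assoc, t2, one_mul]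
  rcases e with e | e | e | e <;> rcases e' with e' | e' | e' | e' <;> rw [e, e'] <;>
    simp [P, inv_eq_of_mul_eq_one_right t2, inv_eq_of_mul_eq_one_right c2, mul_assoc, t2, c2, e1, e3, e4]

end Cfsg.Agent.SBM
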