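import Cfsg.Agent.SBM.Base
import Cfsg.Agent.H38.TenA
import Cfsg.Agent.BMU.Inv2

set_option autoImplicit false

namespace Cfsg.Agent.SBM

open Subgroup H15 H38.MT
open Cfsg.Agent.H14 (bits)
open H26.CoInv (signC_fix signC_e8 signC_compl)

namespace LatC

theorem cg_of_div {x y : leechLattice} (h : DivMem 2 ((x : Vec) - y)) : Cg x y :=
  let ⟨z, hz, e⟩ := h.exists
  ⟨⟨z, hz⟩, Subtype.ext (by rw [sub_eq_iff_eq_add'.1 e, two_smul]; rfl)⟩

theorem l6_std {d : Finset GolayPt} (hd : IsCw d) {k : Co0}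
    (h3 : ∀ i, ∃ j l, i ≠ j ∧ i ≠ l ∧ j ≠ l ∧ (i ∈ d ↔ j ∈ d) ∧ (i ∈ d ↔ l ∈ d))
    (hk : ∀ x, Pp x uP → Cg (signC d hd • x) x → Cg (k • x) x) :
    k = 1 ∨ k = negC ∨ k = signC d hd ∨ k = negC * signC d hd := by
  obtain ⟨σ, c, hc, rfl⟩ := (mem_monoN_iff_congr (k := k) none).2 (hk _ (by decide +kernel) (by
    rw [signC_e8]; split_ifs; exacts [Cg.neg _, .refl _]))
  have h4 : ∀ i j, (i ∈ d ↔ j ∈ d) → Cg ((signC c hc * permC σ) • w4 i j 1 rfl) (w4 i j 1 rfl) := fun i j e => by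
    refine hk _ (Pp.symm ?_) ?_
    · rw [Pp, dot_w4, uP_val, uP_val]; split_ifs <;> decide
    by_cases a : i ∈ d
    · rw [show signC d hd • w4 i j 1 rfl = -w4 i j 1 rfl from Subtype.ext (funext fun l => by
        rw [signC_apply, AddSubgroup.coe_neg, Pi.neg_apply]
        split_ifs with b
        · rfl
        · rw [w4_apply, if_neg fun f : l = i => b (f ▸ a), if_neg fun f : l = j => b (f ▸ e.1 a)]; rfl)]
      exact Cg.neg _
    · rw [(signC_fix hd).2 fun l b => by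
        rw [w4_apply, if_neg fun f : l = i => a (f ▸ b), if_neg fun f : l = j => a (e.2 (f ▸ b))]; rfl]
      exact .refl _
  have h5 : ∀ i j, i ≠ j → (i ∈ d ↔ j ∈ d) → (σ : Equiv.Perm GolayPt) i = i ∨ (σ : Equiv.Perm GolayPt) i = j :=
    fun i j n e => by
      by_contra b
      have nw := sqNorm_w4 n (e := 1) rfl rfl
      rcases (h4 i j e).pm (by rw [co0_norm, nw]) nw with f | f <;>
      · have := congrFun (congrArg Subtype.val f) ((σ : Equiv.Perm GolayPt) i)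
        simp only [mul_smul, signC_apply, permC_apply', AddSubgroup.coe_neg, Pi.neg_apply, w4_apply,
          if_neg (not_or.1 b).1, if_neg (not_or.1 b).2, if_neg n, if_true] at this
        split_ifs at this <;> omega
  obtain rfl : σ = 1 := Subtype.ext (Equiv.ext fun i => by
    obtain ⟨j, l, a, b, n, e, f⟩ := h3 i
    exact (h5 i j a e).elim id fun p => (h5 i l b f).elim id fun q => absurd (p.symm.trans q) n)
  rw [permC_one, mul_one] at h4 ⊢
  have h6 : ∀ i j, (i ∈ d ↔ j ∈ d) → (i ∈ c ↔ j ∈ c) := fun i j e => let ⟨_, f⟩ := h4 i j e; sign_w4 hc f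
  by_cases a : ∃ i ∈ c, i ∈ d <;> by_cases b : ∃ i ∈ c, i ∉ d
  · obtain ⟨i, a1, a2⟩ := a
    obtain ⟨j, b1, b2⟩ := b
    refine .inr (.inl (BMU.signC_eq _ _ (Finset.eq_univ_of_forall fun l => ?_)))
    exact (em (l ∈ d)).elim (fun e => (h6 i l (iff_of_true a2 e)).1 a1) fun e => (h6 j l (iff_of_false b2 e)).1 b1
  · obtain ⟨i, a1, a2⟩ := a
    exact .inr (.inr (.inl (BMU.signC_eq _ _ (Finset.ext fun l =>
      ⟨fun e => by_contra fun n => b ⟨l, e, n⟩, fun e => (h6 i l (iff_of_true a2 e)).1 a1⟩))))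
  · obtain ⟨j, b1, b2⟩ := b
    rw [← negC_comm, ← signC_compl]
    exact .inr (.inr (.inr (BMU.signC_eq _ _ (Finset.ext fun l => by
      rw [Finset.mem_compl]
      exact ⟨fun e n => a ⟨l, e, n⟩, fun e => (h6 j l (iff_of_false b2 e)).1 b1⟩))))
  · exact .inl ((BMU.signC_eq _ _ (Finset.eq_empty_of_forall_notMem fun l e =>
      (em (l ∈ d)).elim (fun n => a ⟨l, e, n⟩) fun n => b ⟨l, e, n⟩)).trans signC_empty)

theorem prop {E P U A A' B B' C D : Prop} (p : P) (t1 : (P ↔ U) ↔ E) (t2 : (A ↔ A') ↔ E) (t3 : (B ↔ B') ↔ E)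
    (t4 : ((A ↔ C) ↔ D) ↔ E) (n1 : ¬ (U ∧ A)) (n2 : ¬ (U ∧ C)) (n3 : ¬ (U ∧ D)) (n4 : ¬ (A ∧ B))
    (n5 : ¬ (A ∧ B')) (n6 : ¬ (A' ∧ B)) (n7 : ¬ (A' ∧ B')) : False := by
  by_cases E <;> by_cases A <;> by_cases B <;> simp_all

theorem f5_std {d : Finset GolayPt} (hd : IsCw d) (hS : ∀ i ∈ d, i ∉ bits 12656645) (f : leechLattice → Prop)
    (f0 : ∀ w, f (w + w)) (fv : f uP)
    (fa : ∀ x y, Cg (signC d hd • x) x → Cg (signC d hd • y) y → (f (x + y) ↔ (f x ↔ f y))) :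
    ∃ x y w : leechLattice, sqNorm (x : Vec) = 32 ∧ sqNorm (y : Vec) = 32 ∧ sqNorm (w : Vec) = 32 ∧
      dotInt (x : Vec) (uP : Vec) = 0 ∧ dotInt (y : Vec) (uP : Vec) = 0 ∧ dotInt (w : Vec) (uP : Vec) = 0 ∧
      Cg (signC d hd • x) x ∧ Cg (signC d hd • y) y ∧ f x ∧ f y ∧ Cg (uP + x + y) w := by
  have fx : ∀ x : leechLattice, (∀ i, i ∉ bits 12656645 → (x : Vec) i = 0) → Cg (signC d hd • x) x := fun x h => by
    rw [(signC_fix hd).2 fun i hi => h i (hS i hi)]; exact .refl _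
  have ad : ∀ x y : leechLattice, (∀ i, i ∉ bits 12656645 → (x : Vec) i = 0 ∧ (y : Vec) i = 0) →
      (f (x + y) ↔ (f x ↔ f y)) := fun x y h => fa x y (fx x fun i hi => (h i hi).1) (fx y fun i hi => (h i hi).2)
  have e8 : ∀ x : leechLattice, DivMem 2 ((x : Vec) - e8 none) → (f x ↔ f (e8 none)) := fun x h => by
    obtain ⟨w, rfl⟩ := cg_of_div h
    rw [fa _ _ (fx _ (by decide +kernel)) ⟨signC d hd • w - w, by rw [co0_smul_add]; abel⟩]
    simp [f0]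
  by_contra n
  have fin : ∀ x y w : leechLattice, (sqNorm (x : Vec) = 32 ∧ sqNorm (y : Vec) = 32 ∧ sqNorm (w : Vec) = 32 ∧
      dotInt (x : Vec) (uP : Vec) = 0 ∧ dotInt (y : Vec) (uP : Vec) = 0 ∧ dotInt (w : Vec) (uP : Vec) = 0 ∧
      (∀ i, i ∉ bits 12656645 → (x : Vec) i = 0 ∧ (y : Vec) i = 0) ∧
      DivMem 2 (((uP + x + y : leechLattice) : Vec) - w)) → ¬ (f x ∧ f y) :=
    fun x y w ⟨a, b, c, a', b', c', s, m⟩ ⟨p, q⟩ => n ⟨x, y, w, a, b, c, a', b', c', fx x fun i hi => (s i hi).1,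
      fx y fun i hi => (s i hi).2, p, q, cg_of_div m⟩
  have t1 := (ad uP uu (by decide +kernel)).symm.trans (e8 _ (by decide +kernel))
  have t2 := (ad (w4 (some 2) (some 13) 1 rfl) (w4 (some 2) (some 13) (-1) rfl) (by decide +kernel)).symm.trans
    (e8 _ (by decide +kernel))
  have t3 := (ad (w4 (some 16) (some 22) 1 rfl) (w4 (some 16) (some 22) (-1) rfl) (by decide +kernel)).symm.trans
    (e8 _ (by decide +kernel))
  have t4 := (ad (w4 (some 2) (some 13) 1 rfl + w4 (some 13) (some 16) 1 rfl) (w4 (some 2) (some 16) 1 rfl)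
    (by decide +kernel)).symm.trans (e8 _ (by decide +kernel))
  rw [ad _ _ (by decide +kernel)] at t4
  exact prop fv t1 t2 t3 t4 (fin _ _ (w4 (some 2) (some 13) (-1) rfl) (by decide +kernel))
    (fin _ _ (w4 (some 13) (some 16) (-1) rfl) (by decide +kernel))
    (fin _ _ (w4 (some 2) (some 16) (-1) rfl) (by decide +kernel))
    (fin _ _ (w4 (some 1) (some 4) 1 rfl) (by decide +kernel))
    (fin _ _ (w4 (some 1) (some 4) (-1) rfl) (by decide +kernel))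
    (fin _ _ (w4 (some 1) (some 4) (-1) rfl) (by decide +kernel))
    (fin _ _ (w4 (some 1) (some 4) 1 rfl) (by decide +kernel))

theorem cg_conj (g e : Co0) (x : leechLattice) : Cg ((g * e * g⁻¹) • x) x ↔ Cg (e • g⁻¹ • x) (g⁻¹ • x) :=
  ⟨fun h => by simpa [mul_smul] using h.smul g⁻¹, fun h => by simpa [mul_smul] using h.smul g⟩

end LatC

open LatC

theorem l6 {e k : Co0} (he : e * e = 1) (hv : e • uu = uu) (h1 : e ≠ 1)
    (h2 : ∀ x : leechLattice, Pp x uu → (32 : ℤ) ∣ sqNorm ((x + e • x : leechLattice) : Vec))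
    (hk : ∀ x, Pp x uu → Cg (e • x) x → Cg (k • x) x) :
    k = 1 ∨ k = negC ∨ k = e ∨ k = negC * e := by
  obtain ⟨g, hg, h⟩ := BMU.inv2 sqNorm_uu hv he h1
  obtain ⟨d, hd, h3, f⟩ : ∃ d hd, (∀ i, ∃ j l, i ≠ j ∧ i ≠ l ∧ j ≠ l ∧ (i ∈ d ↔ j ∈ d) ∧ (i ∈ d ↔ l ∈ d)) ∧
      g * e * g⁻¹ = signC d hd := by
    rcases h with h | h | h <;> exact ⟨_, _, by decide +kernel, h⟩
  have := l6_std hd (k := g * k * g⁻¹) h3 fun x a b => (cg_conj g k x).2
    (hk _ (by rwa [← pp_smul g, smul_inv_smul, hg]) ((cg_conj g e x).1 (f ▸ b)))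
  have n : negC = g * negC * g⁻¹ := by rw [negC_comm, mul_inv_cancel_right]
  rw [← f] at this
  nth_rw 1 [n] at this
  nth_rw 2 [n] at this
  simpa only [conj_eq_one_iff, conj_mul, mul_left_inj, mul_right_inj] using this

theorem f5 {e : Co0} (he : e * e = 1) (hv : e • uu = uu) (f : leechLattice → Prop) (f0 : ∀ w, f (w + w))
    (fv : f uu) (fa : ∀ x y, Cg (e • x) x → Cg (e • y) y → (f (x + y) ↔ (f x ↔ f y))) :
    ∃ x y w : leechLattice, sqNorm (x : Vec) = 32 ∧ sqNorm (y : Vec) = 32 ∧ sqNorm (w : Vec) = 32 ∧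
      dotInt (x : Vec) (uu : Vec) = 0 ∧ dotInt (y : Vec) (uu : Vec) = 0 ∧ dotInt (w : Vec) (uu : Vec) = 0 ∧
      Cg (e • x) x ∧ Cg (e • y) y ∧ f x ∧ f y ∧ Cg (uu + x + y) w := by
  obtain ⟨g, d, hd, hg, hS, h⟩ : ∃ (g : Co0) (d : _) (hd : _), g • uu = uP ∧ (∀ i ∈ d, i ∉ bits 12656645) ∧
      g * e * g⁻¹ = signC d hd := by
    by_cases h1 : e = 1
    · obtain ⟨g, hg⟩ := trans32 uu uP sqNorm_uu sqNorm_uP
      exact ⟨g, ∅, isCw_empty, hg, by simp, by simp [h1, signC_empty]⟩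
    obtain ⟨g, hg, h⟩ := BMU.inv2 sqNorm_uu hv he h1
    rcases h with h | h | h <;> exact ⟨g, _, _, hg, by decide +kernel, h⟩
  have u : g⁻¹ • uP = uu := by rw [← hg, inv_smul_smul]
  obtain ⟨x, y, w, a, b, c, a', b', c', p, q, r, s, t⟩ := f5_std hd hS (fun x => f (g⁻¹ • x))
    (fun w => by rw [co0_smul_add]; exact f0 _) (u ▸ fv) fun x y p q => by
      rw [co0_smul_add]; exact fa _ _ ((cg_conj g e x).1 (h ▸ p)) ((cg_conj g e y).1 (h ▸ q))
  exact ⟨g⁻¹ • x, g⁻¹ • y, g⁻¹ • w, by rwa [co0_norm], by rwa [co0_norm], by rwa [co0_norm], by rwa [← u, co0_dot],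
    by rwa [← u, co0_dot], by rwa [← u, co0_dot], (cg_conj g e x).1 (h ▸ p), (cg_conj g e y).1 (h ▸ q), r, s,
    by rw [← u, ← co0_smul_add, ← co0_smul_add]; exact t.smul _⟩

end Cfsg.Agent.SBM
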