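import Cfsg.Agent.SBM.LatA
import Cfsg.Agent.SBM.LatC

/-! Centralisers in `Q ∩ C(t)` of elements of `C(t, z)`. -/

set_option autoImplicit false

namespace Cfsg.Agent.SBM

open Subgroup H15 H38.MT

variable {M : Type*} [Group M] [Finite M] {z t : M} {Q : Subgroup M}
  {π : centralizer ({z} : Set M) →* Spor.Co1} {R : M → leechLattice → Prop}

namespace ML

omit [Finite M] in
theorem memQ (m : MD z Q π R) {a : M} {k : Co0} (o : Ov π a k) (h : k = 1 ∨ k = negC) : a ∈ Q := by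
  rcases h with rfl | rfl
  · exact o.one m
  · exact Ov.one m ⟨o.1, (co1_eq_iff.2 (.inr (mul_one _).symm)).trans o.2⟩

omit [Finite M] in
theorem fix (m : MD z Q π R) {a q : M} {k : Co0} {x : leechLattice} (o : Ov π a k) (hq : R q x)
    (c : Commute a q) : Cg (k • x) x := by
  have := o.lab m hq
  rw [c.eq, mul_inv_cancel_right] at this
  exact m.congr hq this

omit [Finite M] in
theorem fix' (m : MD z Q π R) {a q : M} {k : Co0} {x : leechLattice} (o : Ov π a k) (hq : R q x)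
    (c : Cg (k • x) x) : a * q * a⁻¹ = q ∨ a * q * a⁻¹ = z * q :=
  m.uniq hq (lab_cg m (o.lab m hq) c.symm)

omit [Finite M] in
theorem sq_one (m : Mod z t Q π R) {b : M} {e : Co0} (o : Ov π b e) (hv : e • uu = uu)
    (b2 : b * b = 1 ∨ b * b = t) : e * e = 1 := by
  have hq : b * b ∈ Q := by
    rcases b2 with h | h <;> rw [h]
    exacts [one_mem Q, m.tQ]
  rcases co1_eq_iff.1 ((ov_one m.md hq).2.trans (o.mul o).2.symm) with h | h
  · exact h
  · have : (e * e) • uu = uu := by rw [mul_smul, hv, hv]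
    rw [h, mul_one, negC_smul] at this
    exact absurd (show uu = -uu + (uu + uu) by abel) (by
      rw [this]
      intro c
      exact short_ne_two (v := uu) (w := -uu) (by rw [sqNorm_uu]; omega) (by rw [sqNorm_uu]; omega) (by
        have c' : uu + uu = 0 := by simpa using c
        rw [← neg_add, c', neg_zero]
        have h2 := congrArg (fun v : leechLattice => sqNorm (v : Vec)) c'
        simp only [AddSubgroup.coe_add, sqNorm_add, dot_self, sqNorm_uu, ZeroMemClass.coe_zero] at h2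
        exact absurd h2 (by simp [sqNorm, dotInt])))

theorem zt (m : Mod z t Q π R) {y : M} {a : leechLattice} (h : R y (uu + a)) (ha : sqNorm (a : Vec) = 32)
    (hd : dotInt (a : Vec) (uu : Vec) = 0) : IsConj z y ∧ ∃ g, Commute g t ∧ g * z * g⁻¹ = y := by
  have c := m.of64 h (by rw [AddSubgroup.coe_add, sqNorm_add, sqNorm_uu, dot_comm]; omega)
  exact ⟨c, m.ztype c (m.of32 (lab_cg m.md (m.md.mul m.lt h) ⟨-uu, by abel⟩) ha)⟩

end ML

theorem Mod.L7 (m : Mod z t Q π R) {a : M} (h1 : Commute a t) (h2 : Commute a z) (ha : a ∉ Q) :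
    ∃ p ∈ Q, ∃ q ∈ Q, Commute p t ∧ Commute q t ∧ ¬ Commute p a ∧ ¬ Commute q a ∧
      ¬ Commute (q⁻¹ * p) a := by
  classical
  obtain ⟨k, o, -⟩ := m.ov_fix h1 h2
  by_contra c
  refine ha (ML.memQ m.md o (fix3 fun f => ?_))
  obtain ⟨i, j, l, n1, n2, n3, e1, e2⟩ := (by decide : ∀ g : Fin 5 → Bool, ∃ i j l, i ≠ j ∧ i ≠ l ∧ j ≠ l ∧
    g i = g l ∧ g j = g l) fun i => decide (Pp (f i) uu)
  have key : ∀ {i}, decide (Pp (f i) uu) = decide (Pp (f l) uu) → Pp (f i - f l) uu := fun e => by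
    rw [sub_eq_add_neg, pp_add, (Cg.neg _).pp]; exact decide_eq_decide.1 e
  obtain ⟨p, hp⟩ := m.md.ex' (f i - f l)
  obtain ⟨q, hq⟩ := m.md.ex' (f j - f l)
  by_cases c1 : Commute p a
  · exact ⟨i, l, n2, ML.fix m.md o hp c1.symm⟩
  by_cases c2 : Commute q a
  · exact ⟨j, l, n3, ML.fix m.md o hq c2.symm⟩
  by_cases c3 : Commute (q⁻¹ * p) a
  · exact ⟨i, j, n1, ML.fix m.md o (lab_cg m.md (m.md.mul (m.md.inv hq) hp) ⟨f l - f j, by abel⟩) c3.symm⟩
  exact absurd ⟨p, m.md.mem hp, q, m.md.mem hq, (m.comm_t hp).2 (key e1), (m.comm_t hq).2 (key e2),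
    c1, c2, c3⟩ c

theorem Mod.L6 (m : Mod z t Q π R) {b c : M} (h1 : Commute b t) (h2 : Commute b z) (hb : b ∉ Q)
    (b2 : b * b = 1 ∨ b * b = t) (hs : ∀ x ∈ Q, Commute x t → x * b * x⁻¹ ≠ b * z)
    (h3 : Commute c t) (h4 : Commute c z) (hc : ∀ f ∈ Q, Commute f t → Commute f b → Commute f c) :
    c ∈ Q ∨ c * b⁻¹ ∈ Q := by
  obtain ⟨e, o, hv⟩ := m.ov_fix h1 h2
  obtain ⟨k, o', -⟩ := m.ov_fix h3 h4
  rcases l6 (k := k) (ML.sq_one m o hv b2) hv (fun e1 => hb (ML.memQ m.md o (.inl e1))) (fun x hx => by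
      obtain ⟨p, hp⟩ := m.md.ex' x
      have pt := (m.comm_t hp).2 hx
      have hy := m.md.mul hp (o.lab m.md (m.md.inv hp))
      have bb : Commute (b * b) p⁻¹ := by
        rcases b2 with h | h <;> rw [h]
        exacts [.one_left _, pt.symm.inv_right]
      have yt : Commute (p * (b * p⁻¹ * b⁻¹)) t := pt.mul_left ((h1.mul_left pt.inv_left).mul_left h1.inv_left)
      have e1 : b * (p * (b * p⁻¹ * b⁻¹)) * b⁻¹ = (p * (b * p⁻¹ * b⁻¹))⁻¹ := by
        calc _ = b * p * b⁻¹ * (b * b * p⁻¹ * (b * b)⁻¹) := by group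
          _ = _ := by rw [bb.eq]; group
      generalize p * (b * p⁻¹ * b⁻¹) = y at hy yt e1
      refine (m.md.sq_iff hy).1 ((m.md.lx.sqr y (m.md.mem hy)).resolve_right fun e2 =>
        hs y⁻¹ (inv_mem (m.md.mem hy)) yt.inv_left ?_)
      calc y⁻¹ * b * y⁻¹⁻¹ = y⁻¹ * (b * y * b⁻¹) * b := by group
        _ = (y * y)⁻¹ * b := by rw [e1]; group
        _ = _ := by rw [e2, inv_eq_of_mul_eq_one_right m.md.lx.sq, h2.eq]) (fun x hx he => by
      obtain ⟨f, hf⟩ := m.md.ex' x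
      have ft := (m.comm_t hf).2 hx
      have fQ := m.md.mem hf
      rcases ML.fix' m.md o hf he with e1 | e1
      · exact ML.fix m.md o' hf (hc f fQ ft (mul_inv_eq_iff_eq_mul.1 e1).symm).symm
      · refine absurd ?_ (hs f⁻¹ (inv_mem fQ) ft.inv_left)
        calc f⁻¹ * b * f⁻¹⁻¹ = f⁻¹ * (b * f * b⁻¹) * b := by group
          _ = _ := by rw [e1, ← m.md.lx.cen f fQ, inv_mul_cancel_left, h2.eq]) with e1 | e1 | e1 | e1
  · exact .inl (ML.memQ m.md o' (.inl e1))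
  · exact .inl (ML.memQ m.md o' (.inr e1))
  · exact .inr (o'.quot m.md (e1 ▸ o))
  · exact .inr (o'.quot m.md (e1 ▸ o.neg))

theorem Mod.F5 (m : Mod z t Q π R) {b : M} (h1 : Commute b t) (h2 : Commute b z)
    (b2 : b * b = 1 ∨ b * b = t) :
    ∃ u ∈ Q, ∃ w ∈ Q, Commute u t ∧ Commute w t ∧ Commute u b ∧ Commute w b ∧ Commute u w ∧
      ∀ y, y = u ∨ y = w ∨ y = u * w ∨ y = z * u ∨ y = z * w ∨ y = z * (u * w) →
        ∃ g, Commute g t ∧ g * z * g⁻¹ = y := by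
  obtain ⟨e, o, hv⟩ := m.ov_fix h1 h2
  have z1 := m.md.lx.ne
  have key : ∀ {p x}, R p x → ((∃ q, R q x ∧ Commute q b) ↔ b * p * b⁻¹ = p) := fun {p x} hp => by
    refine ⟨fun ⟨q, hq, c⟩ => mul_inv_eq_iff_eq_mul.2 ?_,
      fun c => ⟨p, hp, (mul_inv_eq_iff_eq_mul.1 c).symm⟩⟩
    rcases m.md.uniq hq hp with rfl | rfl
    exacts [c.symm, h2.mul_right c.symm]
  obtain ⟨x, y, w, nx, ny, nw, dx, dy, dw, -, -, ⟨p, hp, pb⟩, ⟨q, hq, qb⟩, e1⟩ :=
    f5 (ML.sq_one m o hv b2) hv (fun x => ∃ q, R q x ∧ Commute q b)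
    (fun w => ⟨1, m.md.two w, .one_left _⟩) ⟨t, m.lt, h1.symm⟩ (fun x y hx hy => by
      obtain ⟨p, hp⟩ := m.md.ex' x
      obtain ⟨q, hq⟩ := m.md.ex' y
      have pz := m.md.lx.cen p (m.md.mem hp)
      rw [key hp, key hq, key (m.md.mul hp hq), ← conj_mul]
      rcases ML.fix' m.md o hp hx with e1 | e1 <;> rcases ML.fix' m.md o hq hy with e2 | e2 <;> rw [e1, e2]
      · simp
      · simp [z1]
      · simp [z1]
      · rw [mul_assoc, ← mul_assoc p, pz, mul_assoc, m.md.zz]; simp [z1])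
  have r1 := m.md.mul m.lt hp
  have r2 := m.md.mul m.lt hq
  have r3 : R (t * p * (t * q)) (uu + w) := lab_cg m.md (m.md.mul r1 r2)
    (((Cg.refl uu).add e1.symm).trans ⟨0, by abel⟩)
  have ct : ∀ {y}, (∃ g, Commute g t ∧ g * z * g⁻¹ = y) → Commute y t := fun ⟨g, c, e⟩ =>
    e ▸ (c.mul_left m.tz.symm).mul_left c.inv_left
  obtain ⟨c1, g1⟩ := ML.zt m r1 nx dx
  obtain ⟨c2, g2⟩ := ML.zt m r2 ny dy
  obtain ⟨c3, g3⟩ := ML.zt m r3 nw dw
  refine ⟨_, m.md.mem r1, _, m.md.mem r2, ct g1, ct g2, h1.symm.mul_left pb, h1.symm.mul_left qb, ?_, ?_⟩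
  · change _ = _
    rw [← inv_eq_of_mul_eq_one_right (m.sqz c3), mul_inv_rev, inv_eq_of_mul_eq_one_right (m.sqz c1),
      inv_eq_of_mul_eq_one_right (m.sqz c2)]
  · rintro _ (rfl | rfl | rfl | rfl | rfl | rfl)
    exacts [g1, g2, g3, (ML.zt m (m.md.zmul r1) nx dx).2, (ML.zt m (m.md.zmul r2) ny dy).2,
      (ML.zt m (m.md.zmul r3) nw dw).2]

end Cfsg.Agent.SBM
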