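import Cfsg.Agent.SBM.LatB
import Cfsg.Agent.SBM.MF
import Cfsg.Agent.SBM.ML

/-! The facts on `X = C(t)`. -/

set_option autoImplicit false

namespace Cfsg.Agent.SBM

open Subgroup H15 H38.MT MulAction

variable {M : Type*} [Group M] [Finite M] {z t : M} {Q : Subgroup M}
  {π : centralizer ({z} : Set M) →* Spor.Co1} {R : M → leechLattice → Prop}

namespace XFa

omit [Finite M] in
theorem ovu {a : M} {k k' : stabilizer Co0 uu} (o : Ov π a k) (o' : Ov π a k') : k = k' := by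
  rcases co1_eq_iff.1 (o.2.trans o'.2.symm) with e | e
  · exact Subtype.ext e.symm
  · have h : (k' : Co0) • uu = uu := k'.2
    rw [e, mul_smul, (k.2 : (k : Co0) • uu = uu), negC_smul] at h
    have := congrArg (fun v : leechLattice => dotInt (uu : Vec) v) h
    simp only [AddSubgroup.coe_neg, dot_neg_right, dot_self, sqNorm_uu] at this
    omega

theorem nsq (h : ∀ k : stabilizer Co0 uu, k * k = 1) : False := by
  have := simple_Co2 uu sqNorm_uu
  exact top_ne_bot (two_eq_bot_stab32 uu sqNorm_uu ⊤ inferInstance fun k =>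
    ⟨1, Subtype.ext (by simpa [sq] using h k)⟩)

theorem cen1 {k : stabilizer Co0 uu} (h : ∀ j, j * k = k * j) : k = 1 := by
  have := simple_Co2 uu sqNorm_uu
  have := finite_Co0
  rcases (inferInstance : (center (stabilizer Co0 uu)).Normal).eq_bot_or_eq_top with e | e
  · exact mem_bot.1 (e ▸ mem_center_iff.2 h)
  obtain ⟨g, hg⟩ := exists_prime_orderOf_dvd_card' (G := stabilizer Co0 uu) 2
    (by rw [card_stab32 uu sqNorm_uu]; norm_num)
  have := two_eq_bot_stab32 uu sqNorm_uu (zpowers g) ⟨fun n hn j => by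
    rwa [mem_center_iff.1 (e ▸ mem_top n) j, mul_inv_cancel_right]⟩
    (IsPGroup.of_card (n := 1) (by rw [Nat.card_zpowers, hg, pow_one]))
  rw [zpowers_eq_bot.1 this, orderOf_one] at hg
  omega

theorem fixW {x : leechLattice} (h : ∀ k : Co0, k • uu = uu → Cg (k • x) x ∨ Cg (k • x) (x + uu)) :
    Cg x 0 ∨ Cg x uu := by
  have := simple_Co2 uu sqNorm_uu
  let H : Subgroup (stabilizer Co0 uu) :=
    { carrier := {k | Cg ((k : Co0) • x) x}
      one_mem' := by simpa using Cg.refl x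
      mul_mem' := fun {a b} ha hb => by
        simpa only [Set.mem_ofPred_eq, coe_mul, mul_smul] using (hb.smul _).trans ha
      inv_mem' := fun {a} ha => by simpa using (ha.smul (a : Co0)⁻¹).symm }
  have n : H.Normal := ⟨fun k hk j => by
    have hk' : Cg ((k : Co0) • x) x := hk
    have : Cg ((k : Co0) • (j : Co0)⁻¹ • x) ((j : Co0)⁻¹ • x) := by
      rcases h _ j⁻¹.2 with c | c
      · exact ((c.smul _).trans hk').trans c.symm
      · refine ((c.smul _).trans ?_).trans c.symm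
        rw [co0_smul_add, (k.2 : (k : Co0) • uu = uu)]
        exact hk'.add (Cg.refl _)
    simpa [H, mul_smul] using this.smul j⟩
  rcases n.eq_bot_or_eq_top with e | e
  · refine (nsq fun k => mem_bot.1 (e ▸ (?_ : Cg (((k : Co0) * k) • x) x))).elim
    rw [mul_smul]
    rcases h _ k.2 with c | c
    · exact (c.smul _).trans c
    · refine (c.smul _).trans ?_
      rw [co0_smul_add, (k.2 : (k : Co0) • uu = uu)]
      exact (c.add (Cg.refl uu)).trans ⟨uu, by abel⟩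
  · exact fixV fun k hk => (e ▸ mem_top (⟨k, hk⟩ : stabilizer Co0 uu) : _ ∈ H)

/-- the image in `Co₂` -/
def im (m : MD z Q π R) (N : Subgroup (centralizer ({t} : Set M))) : Subgroup (stabilizer Co0 uu) where
  carrier := {k | ∃ n ∈ N, Ov π (n : M) k}
  one_mem' := ⟨1, one_mem N, ov_one m (one_mem Q)⟩
  mul_mem' := fun ⟨a, ha, o⟩ ⟨b, hb, o'⟩ => ⟨a * b, mul_mem ha hb, o.mul o'⟩
  inv_mem' := fun ⟨a, ha, o⟩ => ⟨a⁻¹, inv_mem ha, o.inv⟩

omit [Finite M] in
theorem cx {a b : centralizer ({t} : Set M)} : Commute a b ↔ Commute (a : M) b := Subtype.ext_iff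

omit [Finite M] in
theorem ct (a : centralizer ({t} : Set M)) : Commute (a : M) t := mem_centralizer_singleton_iff.1 a.2

variable (m : Mod z t Q π R) (ht : t ∈ centralizer ({t} : Set M)) (hz : z ∈ centralizer ({t} : Set M))
include m

omit [Finite M] in
theorem up (k : stabilizer Co0 uu) :
    ∃ a : centralizer ({t} : Set M), Commute a ⟨z, hz⟩ ∧ Ov π (a : M) k :=
  let ⟨a, h1, h2, o⟩ := m.lift_fix k.2; ⟨⟨a, mem_centralizer_singleton_iff.2 h1⟩, cx.2 h2, o⟩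

omit [Finite M] in
theorem down {a : centralizer ({t} : Set M)} (h : Commute a ⟨z, hz⟩) :
    ∃ k : stabilizer Co0 uu, Ov π (a : M) k :=
  let ⟨k, o, e⟩ := m.ov_fix (ct a) (cx.1 h); ⟨⟨k, e⟩, o⟩

omit [Finite M] in
theorem im_normal {N : Subgroup (centralizer ({t} : Set M))}
    (h : ∀ a, Commute a ⟨z, hz⟩ → ∀ n ∈ N, a * n * a⁻¹ ∈ N) : (im m.md N).Normal :=
  ⟨fun _ ⟨n, hn, o⟩ j => let ⟨a, ha, o'⟩ := up m hz j; ⟨_, h a ha n hn, o'.conj o⟩⟩

omit [Finite M] in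
theorem half {U W : Subgroup (centralizer ({t} : Set M))} (hU : ∀ u ∈ U, Commute u ⟨z, hz⟩)
    (hW : im m.md W = ⊤) (h : ∀ u ∈ U, ∀ w ∈ W, w * u * w⁻¹ = u ∨ w * u * w⁻¹ = u * ⟨t, ht⟩) :
    ∀ u ∈ U, u = 1 ∨ u = ⟨t, ht⟩ ∨ u = ⟨z, hz⟩ ∨ u = ⟨z, hz⟩ * ⟨t, ht⟩ := fun u hu => by
  obtain ⟨k, o⟩ := down m hz (hU u hu)
  have hw : ∀ j : stabilizer Co0 uu, ∃ w : M, Ov π w j ∧ (w * u * w⁻¹ = u ∨ w * u * w⁻¹ = u * t) := fun j =>
    let ⟨w, hw, o'⟩ : j ∈ im m.md W := hW ▸ mem_top j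
    ⟨w, o', (h u hu w hw).imp (congrArg Subtype.val) (congrArg Subtype.val)⟩
  obtain rfl : k = 1 := cen1 fun j => by
    obtain ⟨w, o', e⟩ := hw j
    have o2 : Ov π (w * u * w⁻¹) (j * k * j⁻¹ : stabilizer Co0 uu) := o'.conj o
    refine mul_inv_eq_iff_eq_mul.1 ?_
    rcases e with e | e <;> rw [e] at o2
    · exact ovu o2 o
    · exact ovu o2 (by simpa using o.mul (ov_one m.md m.tQ))
  obtain ⟨x, hx⟩ := m.md.ex _ (o.one m.md)
  rcases fixW (x := x) (fun j hj => by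
    obtain ⟨w, o', e⟩ := hw ⟨j, hj⟩
    have := o'.lab m.md hx
    rcases e with e | e <;> rw [e] at this
    exacts [.inl (m.md.congr hx this), .inr (m.md.congr (m.md.mul hx m.lt) this)]) with ⟨w, c⟩ | c
  · rcases (m.md.one_iff hx).2 ⟨w, by rw [c, zero_add]⟩ with e | e
    exacts [.inl (Subtype.ext e), .inr (.inr (.inl (Subtype.ext e)))]
  · rcases m.md.uniq m.lt (lab_cg m.md hx c.symm) with e | e
    exacts [.inr (.inl (Subtype.ext e)), .inr (.inr (.inr (Subtype.ext e)))]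

omit [Finite M] in
theorem sep {a : M} (ha : a ∈ Q) (h : ¬ (a = 1 ∨ a = t ∨ a = z ∨ a = z * t)) :
    ∃ c ∈ Q, Commute c t ∧ c * a * c⁻¹ = a * z := by
  simp only [not_or] at h
  obtain ⟨c, hc, e1, e2⟩ := lx_sep m.md.lx m.tQ ha h.1 h.2.2.1 h.2.1 h.2.2.2
  exact ⟨c, hc, e1, e2.trans (m.md.lx.cen a ha).symm⟩

end XFa

open XFa in
theorem Mod.xf (m : Mod z t Q π R) (ht : t ∈ centralizer ({t} : Set M)) (hz : z ∈ centralizer ({t} : Set M)) :
    XF (⟨t, ht⟩ : centralizer ({t} : Set M)) ⟨z, hz⟩ (Q.subgroupOf _) := by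
  have L := m.md.lx
  have mc : ∀ {a : M}, Commute a t → a ∈ centralizer ({t} : Set M) := mem_centralizer_singleton_iff.2
  have s32 : ∀ {v : leechLattice}, sqNorm (v : Vec) = 32 → ¬ Cg v 0 := fun {v} h ⟨w, e⟩ =>
    short_ne_two (v := v) (w := w) (by omega) (by omega) (by rw [e, zero_add])
  have sd : ∀ {v : leechLattice}, sqNorm (v : Vec) = 32 → dotInt (uu : Vec) v < 32 → -32 < dotInt (uu : Vec) v →
      ¬ Cg uu v := fun {v} h h1 h2 c => by
    rcases c.pm sqNorm_uu h with e | e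
    · rw [← e, dot_self, sqNorm_uu] at h1; omega
    · rw [← neg_eq_iff_eq_neg.2 e, AddSubgroup.coe_neg, dot_neg_right, dot_self, sqNorm_uu] at h2; omega
  refine ⟨Subtype.ext L.sq, fun e => L.ne (congrArg Subtype.val e),
    fun e => m.nc ((show z = t from congrArg Subtype.val e) ▸ IsConj.refl _), fun e => m.excl m.c_tz ?_, m.tQ, L.mem,
    fun p hp => cx.2 (L.cen _ hp), fun a ha p hp => L.norm a (cx.1 ha) p hp, fun p hp q hq => ?_,
    fun p hp => (L.sqr _ hp).imp Subtype.ext Subtype.ext, ?_, fun a h => ?_, fun N h2 hN h n hn => ?_, ?_,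
    fun U W hU hW nU nW h hs => ?_, ?_, fun a ha hn => ?_, fun b hb hn b2 hs c hc h => ?_,
    fun c c2 c1 c3 y h => ?_, fun b hb b2 => ?_⟩
  · rw [m.tz.eq]; exact (centralizer ({t} : Set M)).subtype.map_isConj e
  · exact (L.comm _ hp _ hq).imp (fun e => cx.2 (mul_inv_eq_iff_eq_mul.1 e))
      fun e => Subtype.ext (e.trans (L.cen _ hq).symm)
  · obtain ⟨b, hb⟩ := m.md.ex' uP
    have n := m.md.ne_of_short hb (by rw [sqNorm_uP]; omega) (by rw [sqNorm_uP]; omega)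
    have nc := sd sqNorm_uP (by rw [dot_uu_uP]; omega) (by rw [dot_uu_uP]; omega)
    obtain ⟨c, hc, e1, e2⟩ := sep m (m.md.mem hb) (by
      rintro (e | e | e | e)
      exacts [n.1 e, nc (m.md.congr hb (e ▸ m.lt)), n.2 e, nc (m.md.congr hb (e ▸ m.md.zmul m.lt))])
    exact ⟨⟨c, mc e1⟩, hc, ⟨b, mc ((m.comm_t hb).2 (Pp.symm (by rw [Pp, dot_uu_uP]; simp)))⟩, m.md.mem hb,
      Subtype.ext e2⟩
  · obtain ⟨k, o⟩ := down m hz (h _ L.mem)
    have k1 : (k : Co0) = 1 := faith_Co2 sqNorm_uu k.2 fun x hx => by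
      obtain ⟨q, hq⟩ := m.md.ex' x
      exact .inl (ML.fix m.md o hq (cx.1 (h ⟨q, mc ((m.comm_t hq).2 hx)⟩ (m.md.mem hq))))
    rw [k1] at o
    by_contra hn
    obtain ⟨c, hc, e1, e2⟩ := sep m (o.one m.md) fun e =>
      hn (e.imp Subtype.ext (Or.imp Subtype.ext (Or.imp Subtype.ext Subtype.ext)))
    rw [← (cx.1 (h ⟨c, mc e1⟩ hc) : Commute (a : M) c).eq, mul_inv_cancel_right] at e2
    exact L.ne (left_eq_mul.1 e2)
  · obtain ⟨k, o⟩ := down m hz (hN n hn)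
    have := two_eq_bot_stab32 uu sqNorm_uu _ (im_normal m hz h) fun ⟨j, a, ha, o'⟩ => by
      obtain ⟨i, hi⟩ := h2 ⟨a, ha⟩
      have op : ∀ r : ℕ, Ov π ((a : M) ^ r) (j ^ r : stabilizer Co0 uu) := fun r => by
        induction r with
        | zero => simpa using ov_one m.md (one_mem Q)
        | succ r ih => rw [pow_succ, pow_succ]; exact ih.mul o'
      have e : (a : M) ^ 2 ^ i = 1 := congrArg (fun x : N => ((x : centralizer ({t} : Set M)) : M)) hi
      exact ⟨i, Subtype.ext (ovu (op _) (e ▸ ov_one m.md (one_mem Q)))⟩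
    obtain rfl : k = 1 := mem_bot.1 (this ▸ (⟨n, hn, o⟩ : k ∈ im m.md N))
    exact o.one m.md
  · have : centralizer {(⟨z, hz⟩ : centralizer ({t} : Set M))} = (centralizer {z}).subgroupOf _ := by
      ext x
      rw [mem_centralizer_singleton_iff, mem_subgroupOf, mem_centralizer_singleton_iff]
      exact Subtype.ext_iff
    rw [this]
    exact m.odd
  · have := simple_Co2 uu sqNorm_uu
    rcases (im_normal m hz nW).eq_bot_or_eq_top with e | e
    swap
    · exact .inl (half m ht hz hU e h)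
    rcases (im_normal m hz nU).eq_bot_or_eq_top with e' | e'
    · refine (nsq fun k => ?_).elim
      obtain ⟨a, ha, o⟩ := up m hz k
      obtain ⟨u, hu, w, hw, e2⟩ := hs a ha
      obtain ⟨i, oi⟩ := down m hz (hU u hu)
      obtain ⟨j, oj⟩ := down m hz (hW w hw)
      obtain rfl : i = 1 := mem_bot.1 (e' ▸ (⟨u, hu, oi⟩ : i ∈ im m.md U))
      obtain rfl : j = 1 := mem_bot.1 (e ▸ (⟨w, hw, oj⟩ : j ∈ im m.md W))
      have o2 := oi.mul oj
      rw [← show (a : M) * a = u * w from congrArg Subtype.val e2] at o2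
      exact ovu (k := k * k) (o.mul o) (by simpa using o2)
    · refine .inr (half m ht hz hW e' fun w hw u hu => (h u hu w hw).imp (fun e => ?_) fun e => ?_)
      · rw [← mul_inv_eq_iff_eq_mul.1 e, mul_inv_cancel_right]
      · have tc : ∀ a : centralizer ({t} : Set M), a * ⟨t, ht⟩ = ⟨t, ht⟩ * a := fun a => Subtype.ext (ct a)
        have t2 : (⟨t, ht⟩ * ⟨t, ht⟩ : centralizer ({t} : Set M)) = 1 := Subtype.ext m.t2
        rw [mul_inv_eq_iff_eq_mul] at e ⊢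
        rw [mul_assoc w, ← tc, ← mul_assoc, e, mul_assoc u, ← tc, mul_assoc u, mul_assoc w, t2, mul_one]
  · obtain ⟨x, hx⟩ := m.md.ex' (-bb)
    have nb : sqNorm ((-bb : leechLattice) : Vec) = 32 := by rw [AddSubgroup.coe_neg, sqNorm_neg, norm_bb]
    have db : dotInt (uu : Vec) (-bb : leechLattice) = -16 := by
      rw [AddSubgroup.coe_neg, dot_neg_right, dot_uu_bb]
    obtain ⟨k, k1, k2⟩ := trans_pair_m16 uu (-bb) uu (bb - uu) sqNorm_uu sqNorm_uu nb
      (by rw [AddSubgroup.coe_sub, sqNorm_sub, dot_comm, dot_uu_bb, norm_bb, sqNorm_uu]; omega) db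
      (by rw [AddSubgroup.coe_sub, dot_sub_right, dot_uu_bb, dot_self, sqNorm_uu]; omega)
    obtain ⟨c, o, e1, e2⟩ := lift2 m.md m.lt hx (k1.symm ▸ m.lt)
      (lab_cg m.md (m.md.mul hx m.lt) (k2.symm ▸ ⟨bb - uu, by abel⟩)) (s32 sqNorm_uu) (s32 nb)
      (sd nb (by omega) (by omega))
    exact ⟨⟨c, mc (mul_inv_eq_iff_eq_mul.1 e1)⟩, ⟨x, mc ((m.comm_t hx).2 (Pp.symm (by rw [Pp, db]; simp)))⟩,
      cx.2 o.comm, cx.2 (L.cen _ (m.md.mem hx)), Subtype.ext e2⟩
  · obtain ⟨p, hp, q, hq, p1, q1, h1, h2, h3⟩ := m.L7 (ct a) (cx.1 ha) hn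
    exact ⟨⟨p, mc p1⟩, hp, ⟨q, mc q1⟩, hq, fun e => h1 (cx.1 e), fun e => h2 (cx.1 e), fun e => h3 (cx.1 e)⟩
  · exact m.L6 (ct b) (cx.1 hb) hn (b2.imp (congrArg Subtype.val) (congrArg Subtype.val))
      (fun x hx x1 e => hs ⟨x, mc x1⟩ hx (Subtype.ext e)) (ct c) (cx.1 hc)
      fun f hf f1 e => cx.1 (h ⟨f, mc f1⟩ hf (cx.2 e))
  · exact (m.F (ct c) (congrArg Subtype.val c2) (fun e => c1 (Subtype.ext e)) (fun e => c3 (Subtype.ext e))
      fun x x1 e => cx.1 (h ⟨x, mc x1⟩ (cx.2 e))).imp Subtype.ext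
      (Or.imp Subtype.ext (Or.imp Subtype.ext Subtype.ext))
  · obtain ⟨u, hu, w, hw, u1, w1, h1, h2, h3, h⟩ :=
      m.F5 (ct b) (cx.1 hb) (b2.imp (congrArg Subtype.val) (congrArg Subtype.val))
    have k : ∀ y : centralizer ({t} : Set M), (∃ g, Commute g t ∧ g * z * g⁻¹ = y) → IsConj ⟨z, hz⟩ y :=
      fun y ⟨g, g1, e⟩ => isConj_iff.2 ⟨⟨g, mc g1⟩, Subtype.ext e⟩
    exact ⟨⟨u, mc u1⟩, hu, ⟨w, mc w1⟩, hw, cx.2 h1, cx.2 h2, cx.2 h3, k _ (h _ (by simp)), k _ (h _ (by simp)),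
      k _ (h _ (by simp)), k _ (h _ (by simp)), k _ (h _ (by simp)), k _ (h _ (by simp))⟩

end Cfsg.Agent.SBM
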