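import Cfsg.Agent.SBM.Span
import Cfsg.Agent.S2070

/-! Project SBM: automorphisms of `C(t, z)` fixing `t` and `z` are inner. -/

set_option autoImplicit false

namespace Cfsg.Agent.SBM

open Subgroup H15 H38.MT MulAction

variable {M : Type*} [Group M] [Finite M] {z t : M} {Q : Subgroup M}
  {π : centralizer ({z} : Set M) →* Spor.Co1} {R : M → leechLattice → Prop}

/-- the centraliser of `t` and `z` -/
def autA_A (t z : M) : Subgroup M where
  carrier := {a | Commute a t ∧ Commute a z}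
  mul_mem' ha hb := ⟨ha.1.mul_left hb.1, ha.2.mul_left hb.2⟩
  one_mem' := ⟨.one_left _, .one_left _⟩
  inv_mem' ha := ⟨ha.1.inv_left, ha.2.inv_left⟩

theorem autA_ncg {x : leechLattice} (hx : sqNorm (x : Vec) = 32) : ¬ Cg x 0 := fun ⟨w, e⟩ =>
  short_ne_two (v := x) (w := w) (by omega) (by omega) (by rw [e, zero_add])

theorem autA_ncg' : ¬ Cg uu uP := fun h => by
  have d := dot_uu_uP
  rcases h.pm sqNorm_uu sqNorm_uP with e | e
  · rw [← e, dot_self, sqNorm_uu] at d; omega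
  · rw [e, AddSubgroup.coe_neg, dot_neg_left, dot_self, sqNorm_uP] at d; omega

omit [Finite M] in
theorem autA_uniq {a : M} {k k' : Co0} (h : Ov π a k) (h' : Ov π a k') (e : k • uu = uu)
    (e' : k' • uu = uu) : k = k' := by
  rcases co1_eq_iff.1 (h'.2.trans h.2.symm) with f | f
  · exact f
  · rw [f, mul_smul, e', negC_smul] at e
    have := congrArg (fun x : leechLattice => (x : Vec) none) e
    simp [uu_val] at this

theorem autA_inner (σ : MulAut (stabilizer Co0 uu)) : ∃ s, MulAut.conj s = σ := by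
  obtain ⟨g, hg⟩ := trans32 uu uP sqNorm_uu sqNorm_uP
  obtain ⟨e⟩ := equiv_of_conj (B := stabilizer Co0 uP) g fun x => hg ▸ mem_stab_conj g x uu
  exact STD1.inner_of_equiv (e.trans co2Equiv) (STD1.inner_of_out S2070.result) σ

namespace Mod

variable (m : Mod z t Q π R)
include m

omit [Finite M] in
theorem autA_rho : ∃ ρ : autA_A t z →* stabilizer Co0 uu, Function.Surjective ρ ∧
    ∀ a : autA_A t z, Ov π (a : M) (ρ a : Co0) := by
  choose f h1 h2 using fun a : autA_A t z => m.ov_fix a.2.1 a.2.2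
  refine ⟨MonoidHom.mk' (fun a => ⟨f a, h2 a⟩) fun a b => Subtype.ext
    (autA_uniq (h1 (a * b)) ((h1 a).mul (h1 b)) (h2 _) (show (f a * f b) • uu = uu by rw [mul_smul, h2, h2])),
    fun k => ?_, h1⟩
  obtain ⟨a, a1, a2, a3⟩ := m.lift_fix k.2
  exact ⟨⟨a, a1, a2⟩, Subtype.ext (autA_uniq (h1 _) a3 (h2 _) k.2)⟩

/-- the centraliser of `Q ∩ C(t)` -/
theorem autA_V {v : M} (h1 : Commute v t) (h2 : Commute v z) (h : ∀ p ∈ Q, Commute p t → Commute p v) :
    v = 1 ∨ v = z ∨ v = t ∨ v = z * t := by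
  obtain ⟨k, o, hk⟩ := m.ov_fix h1 h2
  have k1 : k = 1 := faith_Co2 sqNorm_uu hk fun x hx => .inl (by
    obtain ⟨q, hq⟩ := m.md.ex' x
    have := o.lab m.md hq
    rw [← (h q (m.md.mem hq) ((m.comm_t hq).2 hx)).eq, mul_inv_cancel_right] at this
    exact m.md.congr hq this)
  subst k1
  by_contra! c
  obtain ⟨b, hb, b1, b2⟩ := lx_sep m.md.lx m.tQ (o.one m.md) c.1 c.2.1 c.2.2.1 c.2.2.2
  rw [(h b hb b1).eq, mul_inv_cancel_right] at b2
  exact m.md.lx.ne (by simpa using b2)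

variable {ρ : autA_A t z →* stabilizer Co0 uu} (hs : Function.Surjective ρ)
  (ho : ∀ a : autA_A t z, Ov π (a : M) (ρ a : Co0))
include ho

omit [Finite M] in
theorem autA_ker {a : autA_A t z} : ρ a = 1 ↔ (a : M) ∈ Q :=
  ⟨fun h => Ov.one m.md (by simpa [h] using ho a), fun h =>
    Subtype.ext (autA_uniq (ho a) (ov_one m.md h) (ρ a).2 (one_smul _ _))⟩

include hs

omit [Finite M] in
theorem autA_s1 (B : MulAut (autA_A t z)) : ∃ c, ∀ a, ρ (B a) = ρ (c * a * c⁻¹) := by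
  have := finite_Co0
  have hs' : Function.Surjective (ρ.comp B.toMonoidHom) := hs.comp B.surjective
  have h1 : ρ.ker ≤ (ρ.comp B.toMonoidHom).ker := by
    rw [← Subgroup.map_eq_bot_iff]
    refine two_eq_bot_stab32 uu sqNorm_uu _ (ρ.normal_ker.map _ hs') (IsPGroup.map (fun p => ⟨2, ?_⟩) _)
    have hp := (m.autA_ker ho).1 p.2
    refine Subtype.ext (Subtype.ext ?_)
    change ((p : autA_A t z) : M) ^ (2 ^ 2) = 1
    rw [show 2 ^ 2 = 2 * 2 from rfl, pow_mul, pow_two, pow_two]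
    rcases m.md.lx.sqr _ hp with e | e <;> rw [e]
    exacts [mul_one _, m.md.lx.sq]
  let f := ρ.liftOfSurjective hs ⟨_, h1⟩
  have hf : ∀ a, f (ρ a) = ρ (B a) := fun a => ρ.liftOfRightInverse_comp_apply _ _ _ a
  obtain ⟨s, e⟩ := autA_inner (MulEquiv.ofBijective f (Finite.surjective_iff_bijective.1 fun y => by
    obtain ⟨a, rfl⟩ := hs' y
    exact ⟨ρ a, hf a⟩))
  obtain ⟨c, rfl⟩ := hs s
  refine ⟨c, fun a => ?_⟩
  rw [← hf, map_mul, map_mul, map_inv]
  exact (DFunLike.congr_fun e (ρ a)).symm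

theorem autA_s2 (B : MulAut (autA_A t z)) (hB : ∀ a, ρ (B a) = ρ a)
    (ht : ∀ a, (B a : M) = t ↔ (a : M) = t) (hz : ∀ a, (B a : M) = z ↔ (a : M) = z)
    {p : autA_A t z} (hp : (p : M) ∈ Q) : (B p : M) = p ∨ (B p : M) = z * p := by
  have mA : ∀ {q v}, R q v → Pp v uu → q ∈ autA_A t z := fun h h' =>
    ⟨(m.comm_t h).2 h', m.md.lx.cen _ (m.md.mem h)⟩
  have p0 : ∀ {v : leechLattice}, dotInt (v : Vec) (uu : Vec) = 0 → Pp v uu := fun h => by
    rw [Pp, h]; exact dvd_zero _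
  let z' : autA_A t z := ⟨z, m.tz.symm, .refl z⟩
  let t' : autA_A t z := ⟨t, .refl t, m.tz⟩
  have bz : B z' = z' := Subtype.ext ((hz z').2 rfl)
  have bt : B t' = t' := Subtype.ext ((ht t').2 rfl)
  have tr : ∀ {q q' : autA_A t z} {v w}, R q v → R q' v → R (B q) w → R (B q') w := fun {q q' v w} h h' e => by
    rcases m.md.uniq h h' with f | f
    · rwa [Subtype.ext f]
    · rw [show q' = z' * q from Subtype.ext f, map_mul, bz]
      exact m.md.zmul e
  have d0 : dotInt (uP : Vec) (uu : Vec) = 0 := by rw [dot_comm, dot_uu_uP]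
  obtain ⟨y, hy⟩ := m.md.ex' uP
  let y' : autA_A t z := ⟨y, mA hy (p0 d0)⟩
  obtain ⟨l, hl⟩ := m.md.ex (B y') ((m.autA_ker ho).1 (by rw [hB, m.autA_ker ho]; exact m.md.mem hy))
  have key : R (B y') uP ∨ R (B y') (uu + uP) := by
    rcases fixU (x := l) fun k h1 h2 => by
      obtain ⟨c, c1, c2, c3⟩ := lift2 m.md (k := k) m.lt hy (h1.symm ▸ m.lt) (h2.symm ▸ hy)
        (autA_ncg sqNorm_uu) (autA_ncg sqNorm_uP) autA_ncg'
      let c' : autA_A t z := ⟨c, mul_inv_eq_iff_eq_mul.1 c2, c1.comm⟩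
      have o := ho (B c')
      rw [hB, autA_uniq (ho c') c1 (ρ c').2 h1] at o
      have := o.lab m.md hl
      rw [← coe_inv, ← coe_mul, ← coe_mul, ← map_inv, ← map_mul, ← map_mul,
        show c' * y' * c'⁻¹ = y' from Subtype.ext c3] at this
      exact m.md.congr hl this with h | h | h | h
    · have n := m.md.ne_of_short hy (by rw [sqNorm_uP]; omega) (by rw [sqNorm_uP]; omega)
      rcases (m.md.one_iff (lab_cg m.md hl h.symm)).2 ⟨0, by simp⟩ with e | e
      · exact absurd (congrArg Subtype.val (B.map_eq_one_iff.1 (Subtype.ext e))) n.1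
      · exact absurd ((hz _).1 e) n.2
    · refine absurd (Cg.symm ?_) autA_ncg'
      rcases m.md.uniq m.lt (lab_cg m.md hl h.symm) with e | e
      · exact m.md.congr m.lt ((ht _).1 e ▸ hy)
      · have : B y' = B (z' * t') := by rw [map_mul, bz, bt]; exact Subtype.ext e
        have : y = z * t := congrArg Subtype.val (B.injective this)
        exact m.md.congr (m.md.zmul m.lt) (this ▸ hy)
    exacts [.inl (lab_cg m.md hl h.symm), .inr (lab_cg m.md hl h.symm)]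
  have all : ∀ {x : leechLattice}, sqNorm (x : Vec) = 32 → dotInt (x : Vec) (uu : Vec) = 0 →
      ∃ k : Co0, k • uu = uu ∧ k • uP = x ∧ ∀ q : autA_A t z, R q x → ∀ w, R (B y') w → R (B q) (k • w) :=
    fun {x} h1 h2 => by
      obtain ⟨k, k1, k2⟩ := trans_pair_0 uu uP uu x sqNorm_uu sqNorm_uu sqNorm_uP h1 dot_uu_uP
        (by rw [dot_comm, h2])
      obtain ⟨c, hc⟩ := hs ⟨k, k1⟩
      have o1 := ho c
      have o2 := ho (B c)
      rw [hB] at o2
      rw [hc] at o1 o2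
      refine ⟨k, k1, k2, fun q hq w hw => tr (q := c * y' * c⁻¹) (k2 ▸ o1.lab m.md hy) hq ?_⟩
      rw [map_mul, map_mul, map_inv]
      exact o2.lab m.md hw
  rcases key with key | key
  · obtain ⟨x, hx⟩ := m.md.ex _ hp
    let W : AddSubgroup leechLattice :=
      { carrier := {x | ∃ q : autA_A t z, R q x ∧ R (B q) x}
        add_mem' := fun ⟨q, h1, h2⟩ ⟨q', h1', h2'⟩ =>
          ⟨q * q', m.md.mul h1 h1', by rw [map_mul]; exact m.md.mul h2 h2'⟩
        zero_mem' := ⟨z', m.md.zed, by rw [bz]; exact m.md.zed⟩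
        neg_mem' := fun ⟨q, h1, h2⟩ => ⟨q, m.md.neg h1, m.md.neg h2⟩ }
    obtain ⟨q, h1, h2⟩ := gen0 W (fun w => ⟨1, m.md.two w, by rw [map_one]; exact m.md.two w⟩)
      (fun y h1 h2 => by
        obtain ⟨k, -, k2, k3⟩ := all h1 h2
        obtain ⟨q, hq⟩ := m.md.ex' y
        exact ⟨⟨q, mA hq (p0 h2)⟩, hq, k2 ▸ k3 _ hq _ key⟩) ((m.comm_t hx).1 p.2.1)
    exact m.md.uniq hx (tr h1 hx h2)
  · have all' : ∀ {x : leechLattice}, sqNorm (x : Vec) = 32 → dotInt (x : Vec) (uu : Vec) = 0 →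
        ∀ q : autA_A t z, R q x → R (B q) (uu + x) := fun h1 h2 q hq => by
      obtain ⟨k, k1, k2, k3⟩ := all h1 h2
      have := k3 q hq _ key
      rwa [co0_smul_add, k1, k2] at this
    have dd : ∀ i j : GolayPt, i ≠ none → i ≠ some 0 → j ≠ none → j ≠ some 0 →
        dotInt (w4 i j (-1) rfl : Vec) (uu : Vec) = 0 := fun i j a b c d => by
      rw [dot_comm, dot_w4, uu_val, uu_val, if_neg a, if_neg b, if_neg c, if_neg d]; rfl
    have d1 := dd (some 1) (some 2) (by decide) (by decide) (by decide) (by decide)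
    have d2 := dd (some 2) (some 3) (by decide) (by decide) (by decide) (by decide)
    have d3 := dd (some 1) (some 3) (by decide) (by decide) (by decide) (by decide)
    obtain ⟨q1, h1⟩ := m.md.ex' (w4 (some 1) (some 2) (-1) rfl)
    obtain ⟨q2, h2⟩ := m.md.ex' (w4 (some 2) (some 3) (-1) rfl)
    have e : w4 (some 1) (some 2) (-1) rfl + w4 (some 2) (some 3) (-1) rfl = w4 (some 1) (some 3) (-1) rfl :=
      Subtype.ext (funext fun i => by
        simp only [AddSubgroup.coe_add, Pi.add_apply, w4_apply]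
        split_ifs <;> rfl)
    have r1 := all' (sqNorm_w4 (by decide) rfl rfl) d1 ⟨q1, mA h1 (p0 d1)⟩ h1
    have r2 := all' (sqNorm_w4 (by decide) rfl rfl) d2 ⟨q2, mA h2 (p0 d2)⟩ h2
    have r3 := all' (sqNorm_w4 (by decide) rfl rfl) d3 (⟨q1, mA h1 (p0 d1)⟩ * ⟨q2, mA h2 (p0 d2)⟩)
      (e ▸ m.md.mul h1 h2)
    rw [map_mul, ← e] at r3
    obtain ⟨w, hw⟩ := m.md.congr r3 (m.md.mul r1 r2)
    refine absurd ⟨w, ?_⟩ (autA_ncg sqNorm_uu)
    rw [zero_add]
    apply add_right_cancel (b := uu + (w4 (some 1) (some 2) (-1) rfl + w4 (some 2) (some 3) (-1) rfl))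
    rw [add_comm (w + w), ← hw]
    abel

omit [Finite M] hs ho in
theorem autA_s3 (B : MulAut (autA_A t z)) (ht : ∀ a, (B a : M) = t ↔ (a : M) = t)
    (hz : ∀ a, (B a : M) = z ↔ (a : M) = z)
    (h : ∀ p : autA_A t z, (p : M) ∈ Q → (B p : M) = p ∨ (B p : M) = z * p) :
    ∃ b, ∀ p : autA_A t z, (p : M) ∈ Q → B p = b * p * b⁻¹ := by
  by_cases c : ∀ p : autA_A t z, (p : M) ∈ Q → B p = p
  · exact ⟨1, by simpa using c⟩
  push Not at c
  obtain ⟨a, ha, c⟩ := c
  have ba := (h a ha).resolve_left fun e => c (Subtype.ext e)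
  let C := ((B.toMonoidHom.eqLocus (MonoidHom.id _)).map (autA_A t z).subtype) ⊓ Q
  have mC : ∀ p : autA_A t z, (p : M) ∈ Q → B p = p → (p : M) ∈ C := fun p h1 h2 =>
    mem_inf.2 ⟨⟨p, h2, rfl⟩, h1⟩
  obtain ⟨b, hb, b1, b2⟩ := m.md.lx.sep C inf_le_right
    (mC ⟨z, m.tz.symm, .refl z⟩ m.md.lx.mem (Subtype.ext ((hz _).2 rfl))) a ha fun e => by
      obtain ⟨p, e1, e2⟩ := (mem_inf.1 e).1
      obtain rfl : p = a := Subtype.ext e2
      exact c e1
  refine ⟨⟨b, b1 t (mC ⟨t, .refl t, m.tz⟩ m.tQ (Subtype.ext ((ht _).2 rfl))), m.md.lx.cen b hb⟩,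
    fun p hp => Subtype.ext ?_⟩
  change _ = b * p * b⁻¹
  rcases h p hp with e | e
  · rw [b1 p (mC p hp (Subtype.ext e)), mul_inv_cancel_right, e]
  · have := b1 _ (mC (p * a⁻¹) (Q.mul_mem hp (Q.inv_mem ha)) (Subtype.ext (by
      rw [map_mul, map_inv, coe_mul, coe_inv, e, ba, mul_inv_rev, ← p.2.2.eq, coe_mul, coe_inv,
        a.2.2.inv_inv.eq]
      group)))
    rw [coe_mul, coe_inv] at this
    calc _ = (p : M) * (a : M)⁻¹ * (z * a) := by rw [e, ← a.2.2.eq, ← p.2.2.eq]; group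
      _ = b * (p * (a : M)⁻¹) * b⁻¹ * (b * a * b⁻¹) := by rw [this, b2]; group
      _ = _ := by group

theorem autA_s4 (B : MulAut (autA_A t z)) (h : ∀ p : autA_A t z, (p : M) ∈ Q → B p = p) (a : autA_A t z) :
    B a = a := by
  have V : ∀ a : autA_A t z, (∀ g, g * (a⁻¹ * B a) = a⁻¹ * B a * g) ∧ (a⁻¹ * B a) * (a⁻¹ * B a) = 1 := fun a => by
    have := m.autA_V (a⁻¹ * B a).2.1 (a⁻¹ * B a).2.2 fun p hp hp' => by
      let p' : autA_A t z := ⟨p, hp', m.md.lx.cen p hp⟩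
      have e := h (a * p' * a⁻¹) (m.md.lx.norm a a.2.2 p hp)
      rw [map_mul, map_mul, map_inv, h p' hp] at e
      have : p' * (a⁻¹ * B a) = (a⁻¹ * B a) * p' := by
        calc _ = a⁻¹ * (a * p' * a⁻¹) * B a := by group
          _ = _ := by rw [← e]; group
      exact congrArg Subtype.val this
    simp only [Subtype.ext_iff, coe_mul (autA_A t z) _ (a⁻¹ * B a), coe_mul (autA_A t z) (a⁻¹ * B a), coe_one]
    rcases this with e | e | e | e <;> rw [e]
    exacts [⟨fun g => by simp, mul_one _⟩, ⟨fun g => g.2.2, m.md.lx.sq⟩, ⟨fun g => g.2.1, m.t2⟩,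
      ⟨fun g => g.2.2.mul_right g.2.1, by rw [m.md.zsq m.tQ, m.t2]⟩]
  have E : ∀ a : autA_A t z, B a = a * (a⁻¹ * B a) := fun a => by group
  let N := B.toMonoidHom.eqLocus (MonoidHom.id _)
  have hN : N.Normal := ⟨fun n (hn : B n = n) g => show B (g * n * g⁻¹) = g * n * g⁻¹ by
    rw [map_mul, map_mul, map_inv, hn, E g, mul_assoc g, ← (V g).1]; group⟩
  have := simple_Co2 uu sqNorm_uu
  rcases (hN.map ρ hs).eq_bot_or_eq_top with e | e
  · refine absurd (two_eq_bot_stab32 uu sqNorm_uu ⊤ inferInstance fun s => ⟨1, Subtype.ext ?_⟩) top_ne_bot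
    obtain ⟨b, hb⟩ := hs s
    have : ρ (b * b) ∈ N.map ρ := mem_map_of_mem _ (show B (b * b) = b * b by
      rw [map_mul, E b, mul_assoc, ← mul_assoc (b⁻¹ * B b), ← (V b).1, mul_assoc b, (V b).2, mul_one])
    rw [e, mem_bot, map_mul, hb] at this
    simpa [pow_two] using this
  · obtain ⟨n, hn, e'⟩ : ρ a ∈ N.map ρ := e ▸ mem_top _
    have := h (n⁻¹ * a) ((m.autA_ker ho).1 (by rw [map_mul, map_inv, e', inv_mul_cancel]))
    rw [map_mul, map_inv, show B n = n from hn] at this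
    exact mul_left_cancel this

end Mod

theorem Mod.autA (m : Mod z t Q π R) (β : M → M)
    (h0 : ∀ a, Commute a t → Commute a z → Commute (β a) t ∧ Commute (β a) z)
    (hm : ∀ a b, Commute a t → Commute a z → Commute b t → Commute b z → β (a * b) = β a * β b)
    (hi : ∀ a, Commute a t → Commute a z → β a = 1 → a = 1) (ht : β t = t) (hz : β z = z) :
    ∃ c, Commute c t ∧ Commute c z ∧ ∀ a, Commute a t → Commute a z → β a = c * a * c⁻¹ := by
  obtain ⟨ρ, hs, ho⟩ := m.autA_rho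
  let f : autA_A t z →* autA_A t z := MonoidHom.mk' (fun a => ⟨β a, h0 a a.2.1 a.2.2⟩) fun a b =>
    Subtype.ext (hm a b a.2.1 a.2.2 b.2.1 b.2.2)
  let B : MulAut (autA_A t z) := MulEquiv.ofBijective f (Finite.injective_iff_bijective.1
    ((injective_iff_map_eq_one f).2 fun a h => Subtype.ext (hi a a.2.1 a.2.2 (congrArg Subtype.val h))))
  obtain ⟨c, hc⟩ := m.autA_s1 hs ho B
  let B1 : MulAut (autA_A t z) := MulAut.conj c⁻¹ * B
  have fx : ∀ s : autA_A t z, β s = s → Commute (c : M) s → ∀ a, (B1 a : M) = s ↔ (a : M) = s := fun s e h a => by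
    have : B1 s = s := Subtype.ext (by
      change (c : M)⁻¹ * β s * (c : M)⁻¹⁻¹ = s
      rw [e, h.inv_left.eq, mul_inv_cancel_right])
    rw [← Subtype.ext_iff, ← Subtype.ext_iff]
    nth_rw 1 [← this]
    exact B1.injective.eq_iff
  have f1 := fx ⟨t, .refl t, m.tz⟩ ht c.2.1
  have f2 := fx ⟨z, m.tz.symm, .refl z⟩ hz c.2.2
  obtain ⟨b, hb⟩ := m.autA_s3 B1 f1 f2 fun p hp => m.autA_s2 hs ho B1 (fun a => by
    change ρ (c⁻¹ * B a * c⁻¹⁻¹) = _
    rw [map_mul, map_mul, hc, ← map_mul, ← map_mul]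
    congr 1; group) f1 f2 hp
  refine ⟨c * b, (c * b).2.1, (c * b).2.2, fun a h1 h2 => ?_⟩
  have := m.autA_s4 hs ho (MulAut.conj b⁻¹ * B1) (fun p hp => by
    change b⁻¹ * B1 p * b⁻¹⁻¹ = p
    rw [hb p hp]; group) ⟨a, h1, h2⟩
  have e : (b : M)⁻¹ * ((c : M)⁻¹ * β a * (c : M)⁻¹⁻¹) * (b : M)⁻¹⁻¹ = a := congrArg Subtype.val this
  nth_rw 2 [← e]
  group

end Cfsg.Agent.SBM
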